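import Cfsg.Agent.Fusion.NormalCentralizer.Lift
import Cfsg.Agent.Fusion.PrimeResidual
import Cfsg.Agent.Fusion.WeaklyNormalResidual
import Cfsg.Agent.Fusion.InvarianceEquiv
import Cfsg.Agent.Fusion.PPowerUnique
import Cfsg.Agent.Fusion.NormalFamily.Frattini

/-!
Cutting down a weakly normal subsystem at the top to get the extension condition.
-/

set_option autoImplicit false
set_option linter.unusedSectionVars false
set_option linter.style.haveILetI false

namespace Cfsg.Lib.Fusion.Meet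

open Cfsg Cfsg.FusionSystem Cfsg.Lib.Fusion

universe u

variable {Ω : Type u} [Group Ω] {S T U : Subgroup Ω} {F : FusionSystem S} {G : FusionSystem U}
  {p : ℕ} [Finite S] [Fact p.Prime]

/-- Weak normality in an intermediate system. -/
theorem isWeaklyNormal_inter (hS : IsPGroup p S) {D : FusionSystem T} (hD : D.IsWeaklyNormalIn F p)
    (hGs : G.IsSaturated p) (hGF : G.IsSubsystemOf F) (hUS : U ≤ S) (hTU : T ≤ U)
    (hDG : D.IsSubsystemOf G) : D.IsWeaklyNormalIn G p := by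
  obtain ⟨hDs, -, hinv⟩ := hD
  haveI := finite_of_le hUS
  have hsc : G.StronglyClosed T := stronglyClosed_of_apply hTU fun P f hf x hx hxT =>
    stronglyClosed_apply hinv.2.1 (CharSub.isMap_of_sub hGF hf) hx hxT
  refine ⟨hDs, hGs, (invariant_iff_strongInv (hS.of_injective _
    (Subgroup.inclusion_injective hUS)) hGs hDG hsc).mpr ?_⟩
  intro P Q hPQ hQ f hf hfQ g hg
  exact strongInv_of_invariant hinv P Q hPQ hQ f hf hfQ g (CharSub.isMap_of_sub hGF hg)

/-- Lifts to the centralizer move along automorphisms of the larger system. -/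
theorem lift_conj (hS : IsPGroup p S) (hF : F.IsSaturated p) (hX : StrongInv G F)
    (hU : F.StronglyClosed U) (hT : F.StronglyClosed T) (hTU : T ≤ U) {α δ : MulAut T}
    (hα : α ∈ F.autGroup T) (hδ : NormCent.Lift G T (autFun δ)) :
    NormCent.Lift G T (autFun (α * δ * α⁻¹)) := by
  haveI := finite_of_le hT.1
  haveI := finite_of_le hU.1
  obtain ⟨W, hW, eW, hWc⟩ := hδ
  have hTn : F.IsFullyNormalized T := ⟨hT.1, fun Q hQ => by
    obtain ⟨f, hf, rfl⟩ := isConj_iff.mp hQ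
    rw [img_eq_of_apply hf le_rfl fun x hx => stronglyClosed_apply hT hf hx hx]⟩
  obtain ⟨-, -, hrec⟩ := fullyNormalized_props hS hF hTn
  have hαm := (isMap_autFun hT.1).mpr hα
  obtain ⟨f₁, hf₁, ef⟩ := receptive_extend hrec hαm (img_autFun α)
  set Y := T ⊔ centralizerIn U T
  have hYU : Y ≤ U := sup_le hTU inf_le_left
  have hCS : centralizerIn U T ≤ centralizerIn S T := fun c hc => ⟨hU.1 hc.1, hc.2⟩
  have hf : IsMap F Y f₁ :=
    hf₁.mono (sup_le (le_extSub hαm) (hCS.trans (centralizerIn_le_extSub T _)))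
  have hTi : img T f₁ = T := (img_congr ef).trans (img_autFun α)
  have hC : ∀ c ∈ centralizerIn U T, f₁ c ∈ centralizerIn U T := fun c hc => by
    have h1 := hf.mem_centralizerIn le_sup_left (Subgroup.mem_sup_right hc) (hCS hc)
    rw [hTi] at h1
    exact ⟨stronglyClosed_apply hU hf (Subgroup.mem_sup_right hc) hc.1, h1.2⟩
  have hYi : img Y f₁ = Y := by
    rw [hf.img_sup, hTi, img_eq_of_apply hf le_sup_right hC]
  obtain ⟨k, hk, -, hkl, -⟩ := hf.exists_inv
  have hWY := NormCent.mem_of_lift hW (fun x hx => eW x hx ▸ autFun_mem δ hx) hWc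
  have h1 := hX Y Y le_rfl hYU W hW hWY f₁ hf (f₁ ∘ (W ∘ k)) fun x hx => by
    show f₁ (W (k (f₁ x))) = _
    rw [hkl x hx]
  rw [hYi] at h1
  refine ⟨_, h1, fun x hx => ?_, fun c hc => ?_⟩
  · have hy := autFun_mem α⁻¹ hx
    show f₁ (W (k x)) = _
    have hkx : k x = autFun α⁻¹ x := by
      conv_lhs => rw [← autFun_inv_apply α hx, ← ef _ hy]
      exact hkl _ (Subgroup.mem_sup_left hy)
    rw [hkx, eW _ hy, ef _ (autFun_mem δ hy), autFun_mul _ _ hx, autFun_mul _ _ hy]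
  · obtain ⟨d, hd, rfl⟩ := (hf.mono le_sup_right).mem_img.mp
      ((img_eq_of_apply hf le_sup_right hC).symm ▸ hc : c ∈ img (centralizerIn U T) f₁)
    have hdY : d ∈ Y := Subgroup.mem_sup_right hd
    show (f₁ d)⁻¹ * f₁ (W (k (f₁ d))) ∈ T
    rw [hkl d hdY, ← hf.map_inv hdY, ← hf.map_mul (Y.inv_mem hdY) (hWY d hdY)]
    exact hTi.le (IsMap.apply_mem_img (hWc d hd))

/-- The extension condition gives lifts. -/
theorem lift_of_normal {D : FusionSystem T} (hD : D.IsNormalIn F p) {α : MulAut T}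
    (hα : α ∈ D.autGroup T) : NormCent.Lift F T (autFun α) := by
  obtain ⟨β, hβ, eβ, hc⟩ := hD.2 α hα
  refine ⟨autFun β, (isMap_autFun (sup_le hD.1.2.2.2.1.1 inf_le_left)).mpr hβ, fun x hx => ?_,
    fun c hcc => ?_⟩
  · rw [autFun_apply_mem _ (Subgroup.mem_sup_left hx), autFun_apply_mem α hx]
    exact eβ ⟨x, hx⟩
  · rw [autFun_apply_mem _ (Subgroup.mem_sup_right hcc)]
    exact (hc ⟨c, Subgroup.mem_sup_right hcc⟩ hcc).1

variable {D₀ : FusionSystem T} {K : Subgroup (MulAut T)}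

theorem isMap_refine_of_residual [Finite T] (hK : K ≤ D₀.autGroup T)
    (hres : (PrimeIndex.residual D₀ p).autGroup T ≤ K) {P : Subgroup Ω} {f : Ω → Ω}
    (hf : IsMap (PrimeIndex.residual D₀ p) P f) :
    IsMap (PrimeIndex.sub hK (PrimeIndex.siteFam_centrics (F := D₀) (p := p))) P f := by
  obtain ⟨hfD, δ, hδ, f₀, hf₀, hG, he⟩ := (PrimeIndex.isMap_sub_iff PrimeIndex.forcedAut_le
    PrimeIndex.siteFam_centrics).mp hf
  exact (PrimeIndex.isMap_sub_iff _ _).mpr ⟨hfD, δ, hres ((isMap_autFun le_rfl).mp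
    (PrimeIndex.isMap_sub_top PrimeIndex.forcedAut_le PrimeIndex.siteFam_centrics hδ)),
    f₀, hf₀, hG, he⟩

/-- The refined system is normal. -/
theorem refine_normal [Finite T] (hS : IsPGroup p S) (hD₀ : D₀.IsWeaklyNormalIn F p)
    (hK : K ≤ D₀.autGroup T) (hres : (PrimeIndex.residual D₀ p).autGroup T ≤ K)
    (hKn : ∀ a ∈ F.autGroup T, ∀ δ ∈ K, a * δ * a⁻¹ ∈ K)
    (hKl : ∀ δ ∈ K, NormCent.Lift F T (autFun δ)) :
    (PrimeIndex.sub hK (PrimeIndex.siteFam_centrics (F := D₀) (p := p))).IsNormalIn F p := by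
  obtain ⟨hDs, hF, hinv⟩ := id hD₀
  have hsc := hinv.2.1
  have hTS := hsc.1
  have hTp : IsPGroup p T := hS.of_injective _ (Subgroup.inclusion_injective hTS)
  set R₀ := PrimeIndex.residual D₀ p
  have hR₀ : R₀.IsNormalIn F p :=
    WeaklyNormal.residual_normal hS hD₀ (PrimeIndex.residual_spec hTp hDs)
  set hℋ := PrimeIndex.siteFam_centrics (F := D₀) (p := p)
  set D := PrimeIndex.sub hK hℋ
  have hDF : D.IsSubsystemOf F := fun P φ h => hinv.1 P (PrimeIndex.sub_le hK hℋ P h)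
  have hforced : PrimeIndex.Forced D₀ p (PrimeIndex.centrics D₀) K := fun δ hδ R hR g hg hG e =>
    hres ((isMap_autFun le_rfl).mp (PrimeIndex.isMap_sub_top PrimeIndex.forcedAut_le hℋ
      (PrimeIndex.forced_forcedAut δ hδ R hR g hg hG e)))
  have hsplit : ∀ {P : Subgroup Ω} {f : Ω → Ω}, IsMap D P f → ∃ δ ∈ K, ∃ f₀,
      IsMap R₀ P f₀ ∧ ∀ x ∈ P, f x = autFun δ (f₀ x) := fun hf => by
    obtain ⟨-, δ, hδ, f₀, hf₀, hG, he⟩ := (PrimeIndex.isMap_sub_iff hK hℋ).mp hf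
    exact ⟨δ, hδ, f₀, PrimeIndex.isMap_sub_gen PrimeIndex.forcedAut_le hℋ hf₀ hG, he⟩
  have hR₀D : ∀ {P : Subgroup Ω} {f : Ω → Ω}, IsMap R₀ P f → IsMap D P f := fun hf =>
    isMap_refine_of_residual hK hres hf
  have htop : ∀ {δ : MulAut T}, δ ∈ K → IsMap D T (autFun δ) := fun hδ =>
    PrimeIndex.isMap_sub_top hK hℋ hδ
  have htrans : ∀ {P : Subgroup Ω} {h : Ω → Ω}, IsMap D P h → ∀ {a : MulAut T},
      a ∈ F.autGroup T → IsMap D (img P (autFun a)) (fun y => autFun a (h (autFun a⁻¹ y))) := by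
    intro P h hh a ha
    obtain ⟨δ, hδ, f₀, hf₀, e⟩ := hsplit hh
    have ht := hR₀D (invariant_transportT hR₀.1.2.2 hTS hf₀ ha)
    refine (ht.comp (htop (hKn a ha δ hδ)) fun y hy => ht.mem_S hy).congr fun y hy => ?_
    have hPT : P ≤ T := hh.le
    obtain ⟨x, hx, rfl⟩ := (((isMap_autFun hTS).mpr ha).mono hPT).mem_img.mp hy
    show autFun a (h (autFun a⁻¹ (autFun a x))) =
      autFun (a * δ * a⁻¹) (autFun a (f₀ (autFun a⁻¹ (autFun a x))))
    have hfx := hf₀.mem_S hx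
    rw [autFun_inv_apply' a (hPT hx), e x hx, autFun_mul _ _ (autFun_mem a hfx),
      autFun_mul _ _ (autFun_mem _ (autFun_mem a hfx)), autFun_inv_apply' a hfx]
  have hX : StrongInv D F := by
    intro P Q hPQ hQ f hf hfQ g hg h hh
    obtain ⟨a, ha, g₀, hg₀, he⟩ := invariant_frattiniT hR₀.1.2.2 hQ hg
    have hg₀D := hR₀D hg₀
    obtain ⟨d, hd, -, hdl, -⟩ := (hg₀D.mono hPQ).exists_inv
    have hdP : ∀ y ∈ img P g₀, d y ∈ P := fun y hy => by
      obtain ⟨x, hx, rfl⟩ := (hg₀D.mono hPQ).mem_img.mp hy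
      rwa [hdl x hx]
    have h1 : IsMap D (img P g₀) (g₀ ∘ (f ∘ d)) :=
      (hd.comp hf hdP).comp hg₀D fun y hy => hfQ _ (hdP y hy)
    have h2 := htrans h1 ha
    have hle : img P g ≤ img (img P g₀) (autFun a) := IsMap.img_le_iff.mpr fun x hx => by
      rw [he x (hPQ hx)]
      exact IsMap.apply_mem_img (IsMap.apply_mem_img hx)
    refine (h2.mono hle).congr fun y hy => ?_
    obtain ⟨x, hx, rfl⟩ := (hg.mono hPQ).mem_img.mp hy
    rw [hh x hx, he _ (hfQ x hx)]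
    show _ = autFun a (g₀ (f (d (autFun a⁻¹ (g x)))))
    rw [he x (hPQ hx), autFun_inv_apply' a (hg₀.mem_S (hPQ hx)), hdl x hx]
  refine ⟨⟨PrimeIndex.sub_saturated hK hℋ hTp hDs hforced, hF,
    (invariant_iff_strongInv hS hF hDF hsc).mpr hX⟩, fun α hα => ?_⟩
  obtain ⟨δ, hδ, f₀, hf₀, e⟩ := hsplit ((isMap_autFun le_rfl).mpr hα)
  obtain ⟨γ, hγ, eγ⟩ := hf₀.exists_aut
    (Subgroup.eq_of_le_of_card_ge hf₀.img_le hf₀.card_img.ge)
  have hαK : α ∈ K := by
    have h1 := K.mul_mem hδ (hres hγ)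
    convert h1 using 1
    exact NFam.eq_of_autFun fun x hx => by rw [e x hx, autFun_mul _ _ hx, eγ x hx]
  obtain ⟨W, hW, eW, hWc⟩ := hKl α hαK
  haveI := finite_of_le (sup_le hTS inf_le_left : T ⊔ centralizerIn S T ≤ S)
  obtain ⟨β, hβ, eβ⟩ := hW.exists_aut (img_eq_of_apply hW le_rfl
    (NormCent.mem_of_lift hW (fun x hx => eW x hx ▸ autFun_mem α hx) hWc))
  refine ⟨β, hβ, fun x => ?_, fun c hcc => ?_⟩
  · have h1 := (eβ _ (Subgroup.mem_sup_left x.2)).trans (eW x x.2)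
    rw [autFun_apply α x, autFun_apply_mem β (Subgroup.mem_sup_left x.2)] at h1
    exact h1
  · rw [← autFun_apply β c, eβ _ c.2]
    refine ⟨hWc _ hcc, ?_⟩
    have h1 := hW.mem_centralizerIn (P := T) le_sup_left c.2 hcc
    rw [img_congr eW, img_autFun] at h1
    exact ((centralizerIn S T).mul_mem ((centralizerIn S T).inv_mem hcc) h1).2

end Cfsg.Lib.Fusion.Meet
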