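import Cfsg.Agent.Fusion.Meet.Family
import Cfsg.Agent.Fusion.Meet.Refine
import Cfsg.Agent.Fusion.NormalFamily.System
import Cfsg.Agent.Fusion.WeaklyNormalLeast

/-!
The largest common normal subsystem of two normal subsystems on the meet of their subgroups.
-/

set_option autoImplicit false
set_option linter.unusedSectionVars false
set_option linter.style.haveILetI false

namespace Cfsg.Lib.Fusion.Meet

open Cfsg Cfsg.FusionSystem Cfsg.Lib.Fusion

universe u

variable {Ω : Type u} [Group Ω] {S T₁ T₂ : Subgroup Ω} {F : FusionSystem S}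
  {E₁ : FusionSystem T₁} {E₂ : FusionSystem T₂} {p : ℕ} [Finite S] [Fact p.Prime]

theorem exists_meet (hS : IsPGroup p S) (h₁ : E₁.IsNormalIn F p) (h₂ : E₂.IsNormalIn F p) :
    ∃ D : FusionSystem (T₁ ⊓ T₂), (D.IsNormalIn F p ∧ D.IsNormalIn E₁ p ∧ D.IsNormalIn E₂ p) ∧
      ∀ D' : FusionSystem (T₁ ⊓ T₂), D'.IsNormalIn F p → D'.IsNormalIn E₁ p →
        D'.IsNormalIn E₂ p → D'.IsSubsystemOf D := by
  obtain ⟨hs₁, hF, hi₁⟩ := id h₁.1
  obtain ⟨hs₂, -, hi₂⟩ := id h₂.1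
  set T := T₁ ⊓ T₂
  have hsc₁ := hi₁.2.1
  have hsc₂ := hi₂.2.1
  have hsc := stronglyClosed_inf hsc₁ hsc₂
  haveI := finite_of_le hsc₁.1
  haveI := finite_of_le hsc₂.1
  haveI := finite_of_le hsc.1
  haveI : Finite (MulAut T) := NormCent.finite_mulAut T
  have hS₁ : IsPGroup p T₁ := hS.of_injective _ (Subgroup.inclusion_injective hsc₁.1)
  have hS₂ : IsPGroup p T₂ := hS.of_injective _ (Subgroup.inclusion_injective hsc₂.1)
  have hTp : IsPGroup p T := hS.of_injective _ (Subgroup.inclusion_injective hsc.1)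
  have hG := pre_both hS h₁ h₂
  have hX := NFam.fam_genX hS hF hG
  set D₀ := NFam.famSystem hX
  have hw : D₀.IsWeaklyNormalIn F p := NFam.fam_weaklyNormal hS hF hX
  have hDs := hw.1
  -- inside both systems
  have hin : ∀ {V : Subgroup Ω} (E : FusionSystem V),
      (∀ Q ∈ members F T₁ T₂, ∀ β ∈ both E₁ E₂ Q, IsMap E Q (autFun β)) →
      D₀.IsSubsystemOf E := by
    intro V E hb P φ hφ
    refine IsMap.mem_toFun' ?_
    have hgen : NFam.Gen (members F T₁ T₂)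
        (NFam.genX F T p (both E₁ E₂)) P (toFun' φ) := hφ
    revert hgen
    generalize toFun' φ = f
    intro hgen
    clear hφ φ
    induction hgen with
    | @base Q P' β f hQ hβ hP e =>
      exact ((hb Q hQ β (NFam.genX_le hG hQ hβ)).mono hP).congr e
    | comp _ _ hm e ih₁ ih₂ => exact (ih₁.comp ih₂ hm).congr e
  have hsub₁ : D₀.IsSubsystemOf E₁ := hin E₁ fun Q hQ β hβ =>
    (isMap_autFun (hQ.1.trans inf_le_left)).mpr hβ.1
  have hsub₂ : D₀.IsSubsystemOf E₂ := hin E₂ fun Q hQ β hβ =>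
    (isMap_autFun (hQ.1.trans inf_le_right)).mpr hβ.2
  have hw₁ := isWeaklyNormal_inter hS hw hs₁ hi₁.1 hsc₁.1 inf_le_left hsub₁
  have hw₂ := isWeaklyNormal_inter hS hw hs₂ hi₂.1 hsc₂.1 inf_le_right hsub₂
  set K : Subgroup (MulAut T) := D₀.autGroup T ⊓ (NormCent.liftable F T hsc.1 ⊓
    (NormCent.liftable E₁ T inf_le_left ⊓ NormCent.liftable E₂ T inf_le_right))
  have hKle : K ≤ D₀.autGroup T := inf_le_left
  have hspec := PrimeIndex.residual_spec hTp hDs
  have hR := WeaklyNormal.residual_normal hS hw hspec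
  have hR₁ := WeaklyNormal.residual_normal hS₁ hw₁ hspec
  have hR₂ := WeaklyNormal.residual_normal hS₂ hw₂ hspec
  have hres : (PrimeIndex.residual D₀ p).autGroup T ≤ K := fun α hα =>
    ⟨(isMap_autFun le_rfl).mp (CharSub.isMap_of_sub hspec.2.1.1 ((isMap_autFun le_rfl).mpr hα)),
      lift_of_normal hR hα, lift_of_normal hR₁ hα, lift_of_normal hR₂ hα⟩
  have hKn : ∀ a ∈ F.autGroup T, ∀ δ ∈ K, a * δ * a⁻¹ ∈ K := fun a ha δ hδ => by
    obtain ⟨hδ₀, hδF, hδ₁, hδ₂⟩ := hδ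
    have hm := (isMap_autFun hsc.1).mpr ha
    refine ⟨?_, ?_, ?_, ?_⟩
    · rw [← NFam.congr_aut (β := δ) hm]
      exact NormCent.congr_mem_sub hw.2.2 le_rfl hm (img_autFun a) hδ₀
    · exact lift_conj hS hF (fun P Q hPQ hQ f hf hfQ g hg h hh => by
        obtain ⟨k, hk, -, hkl, -⟩ := (hg.mono hPQ).exists_inv
        have hm' : ∀ y ∈ img P g, k y ∈ P := fun y hy => by
          obtain ⟨x, hx, rfl⟩ := (hg.mono hPQ).mem_img.mp hy
          rwa [hkl x hx]
        refine ((hk.comp hf hm').comp hg fun y hy => hfQ _ (hm' y hy)).congr fun y hy => ?_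
        obtain ⟨x, hx, rfl⟩ := (hg.mono hPQ).mem_img.mp hy
        show h (g x) = g (f (k (g x)))
        rw [hh x hx, hkl x hx])
        (stronglyClosed_of_apply le_rfl fun P f hf x hx _ => hf.mem_S hx) hsc hsc.1 ha hδF
    · exact lift_conj hS hF (strongInv_of_invariant hi₁) hsc₁ hsc inf_le_left ha hδ₁
    · exact lift_conj hS hF (strongInv_of_invariant hi₂) hsc₂ hsc inf_le_right ha hδ₂
  have hautF : ∀ {V : Subgroup Ω} {E : FusionSystem V}, E.IsSubsystemOf F → T ≤ V →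
      E.autGroup T ≤ F.autGroup T := fun hE hV a ha =>
    (isMap_autFun hsc.1).mp (CharSub.isMap_of_sub hE ((isMap_autFun hV).mpr ha))
  set D := PrimeIndex.sub hKle (PrimeIndex.siteFam_centrics (F := D₀) (p := p))
  have hDn : D.IsNormalIn F p := refine_normal hS hw hKle hres hKn fun δ hδ => hδ.2.1
  have hDn₁ : D.IsNormalIn E₁ p := refine_normal hS₁ hw₁ hKle hres
    (fun a ha => hKn a (hautF hi₁.1 inf_le_left ha)) fun δ hδ => hδ.2.2.1
  have hDn₂ : D.IsNormalIn E₂ p := refine_normal hS₂ hw₂ hKle hres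
    (fun a ha => hKn a (hautF hi₂.1 inf_le_right ha)) fun δ hδ => hδ.2.2.2
  refine ⟨D, ⟨hDn, hDn₁, hDn₂⟩, fun D' hD' hD'₁ hD'₂ => ?_⟩
  obtain ⟨hD's, -, hD'i⟩ := id hD'.1
  -- the other system lies in the generated one
  have hmemb : ∀ {Q : Subgroup Ω}, D'.IsCentric Q → Q ∈ members F T₁ T₂ := fun {Q} hQ =>
    ⟨hQ.1, fun R hR => by
      obtain ⟨f, hf, rfl⟩ := isConj_iff.mp hR
      exact (CharSub.centricT_img hD'i hQ hf).2 _ (isConj_refl
        (CharSub.centricT_img hD'i hQ hf).1)⟩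
  have hgood : ∀ Q : Subgroup Ω, D'.IsCentric Q → D'.IsFullyNormalized Q → ∀ α ∈ D'.autGroup Q,
      α ∈ D₀.autGroup Q := fun Q hQc hQn α hα => by
    have hQ := hmemb hQc
    rw [NFam.fam_autGroup hS hF hX hQ]
    refine PPower.autGroup_le_of hS hsc.1 hD's hQn (NFam.autInducedBy_le_genX hG hQ.1)
      (fun β hβ hc => Subgroup.subset_closure (Or.inl ⟨⟨?_, ?_⟩, hc⟩)) hα
    · exact (isMap_autFun (hQ.1.trans inf_le_left)).mp
        (CharSub.isMap_of_sub hD'₁.1.2.2.1 ((isMap_autFun hQ.1).mpr hβ))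
    · exact (isMap_autFun (hQ.1.trans inf_le_right)).mp
        (CharSub.isMap_of_sub hD'₂.1.2.2.1 ((isMap_autFun hQ.1).mpr hβ))
  have hTn : D'.IsFullyNormalized T := ⟨le_rfl, fun Q hQ => by
    obtain ⟨f, hf, rfl⟩ := isConj_iff.mp hQ
    rw [Subgroup.eq_of_le_of_card_ge hf.img_le hf.card_img.ge]⟩
  have hTc := CharSub.centric_top hD'i
  have htopK : D'.autGroup T ≤ K := fun α hα => ⟨hgood T hTc hTn α hα, lift_of_normal hD' hα,
    lift_of_normal hD'₁ hα, lift_of_normal hD'₂ hα⟩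
  have hR₀D' : (PrimeIndex.residual D₀ p).IsSubsystemOf D' :=
    WeaklyNormal.residual_le hS hw hspec hD'.1
  -- factorizations land in `D`
  have key : ∀ {R : Subgroup Ω} {g : Ω → Ω}, D'.IsCentric R → IsMap D' R g → IsMap D₀ R g →
      IsMap D R g := by
    intro R g hRc hg hg₀
    obtain ⟨δ, hδ, f₀, hf₀, hG', he⟩ := PrimeIndex.factor (p := p) hTp hDs
      (PrimeIndex.siteFam_centrics (F := D₀)) hg₀
    have hf₀' : IsMap D' R f₀ := CharSub.isMap_of_sub hR₀D'
      (PrimeIndex.isMap_sub_gen PrimeIndex.forcedAut_le PrimeIndex.siteFam_centrics hf₀ hG')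
    obtain ⟨k, hk, -, hkl, -⟩ := hf₀'.exists_inv
    have hkR : ∀ y ∈ img R f₀, k y ∈ R := fun y hy => by
      obtain ⟨x, hx, rfl⟩ := hf₀'.mem_img.mp hy
      rwa [hkl x hx]
    have hδR : IsMap D' (img R f₀) (autFun δ) := (hk.comp hg hkR).congr fun y hy => by
      obtain ⟨x, hx, rfl⟩ := hf₀'.mem_img.mp hy
      show _ = g (k (f₀ x))
      rw [hkl x hx, he x hx]
    have hR' : D'.IsCentric (img R f₀) :=
      centric_of_isConj hRc (isConj_iff.mpr ⟨f₀, hf₀', rfl⟩)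
    -- the parts of `δ`
    obtain ⟨a, b, ha, -, hab, hak, hbc⟩ := Cfsg.Lib.Transfer.exists_pPart p δ
    have ha₀ : a ∈ D₀.autGroup T := Subgroup.zpowers_le.mpr hδ ha
    have haI : a ∈ autInducedBy T T := by
      obtain ⟨k', hk'⟩ := hak
      obtain ⟨χ, hχ, h⟩ := exists_conj_into_autS
        (fullyNormalized_props hTp hDs ⟨le_rfl, fun Q hQ => by
          obtain ⟨f, hf, rfl⟩ := isConj_iff.mp hQ
          rw [Subgroup.eq_of_le_of_card_ge hf.img_le hf.card_img.ge]⟩).2.1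
        (IsPGroup.of_card (n := k') ((Nat.card_zpowers a).trans hk'))
        (Subgroup.zpowers_le.mpr ha₀)
      obtain ⟨t, ht, et⟩ := mem_autInducedBy.mp (h a (Subgroup.mem_zpowers a))
      refine mem_autInducedBy.mpr ⟨(χ⁻¹ ⟨t, ht⟩ : T), (χ⁻¹ ⟨t, ht⟩).2, fun z => ?_⟩
      have h1 : (χ * a * χ⁻¹) (χ z) = ⟨t, ht⟩ * χ z * ⟨t, ht⟩⁻¹ := Subtype.ext (et (χ z))
      have h2 := congrArg (χ⁻¹ : MulAut T) h1
      simp only [MulAut.mul_apply, MulAut.inv_apply_self, map_mul, map_inv] at h2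
      exact congrArg Subtype.val h2
    have haD' : a ∈ D'.autGroup T := autInducedBy_le le_rfl haI
    have hR'T : img R f₀ ≤ T := hR'.1
    have hbR : IsMap D' (img R f₀) (autFun b) := by
      refine (hδR.comp ((isMap_autFun le_rfl).mpr (Subgroup.inv_mem _ haD'))
        fun y hy => autFun_mem δ (hR'T hy)).congr fun y hy => ?_
      show _ = autFun a⁻¹ (autFun δ y)
      rw [← autFun_mul _ _ (hR'T hy), ← hab, inv_mul_cancel_left]
    have hbF : b ∈ F.autGroup T := by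
      rw [show b = a⁻¹ * δ by rw [← hab, inv_mul_cancel_left]]
      exact mul_mem (Subgroup.inv_mem _ (hautF hw.2.2.1 le_rfl ha₀))
        (hautF hw.2.2.1 le_rfl hδ)
    have hδD' : δ ∈ D'.autGroup T := by
      rw [← hab]
      exact mul_mem haD' (WeaklyNormal.mem_of_restrict hS hD'.1 hbF hbc hR' hbR)
    exact (PrimeIndex.isMap_sub_iff hKle _).mpr ⟨hg₀, δ, htopK hδD', f₀, hf₀, hG', he⟩
  intro P φ hφ
  refine IsMap.mem_toFun' (alperin_radical hTp hD's (isMapClass_isMap D' D) (fun f hf => ?_)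
    (fun Q _ hQn hQc _ _ α hα => key hQc ((isMap_autFun hQn.1).mpr hα)
      ((isMap_autFun hQn.1).mpr (hgood Q hQc hQn α hα))) (isMap_of_mem hφ))
  obtain ⟨α, hα, eα⟩ := hf.exists_aut (Subgroup.eq_of_le_of_card_ge hf.img_le hf.card_img.ge)
  exact key hTc hf (((isMap_autFun le_rfl).mpr (hgood T hTc hTn α hα)).congr
    fun x hx => (eα x hx).symm)

end Cfsg.Lib.Fusion.Meet
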