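import Cfsg.Agent.Fusion.Meet.Triv

/-!
An extension to the preimage, trivial modulo a normal subsystem, at a settled position.
-/

set_option autoImplicit false
set_option linter.unusedSectionVars false
set_option linter.style.haveILetI false

namespace Cfsg.Lib.Fusion.Meet

open Cfsg Cfsg.FusionSystem Cfsg.Lib.Fusion

universe u

variable {Ω : Type u} [Group Ω] {S T : Subgroup Ω} {F : FusionSystem S} {E : FusionSystem T}
  {p : ℕ} [Finite S] [Fact p.Prime]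

theorem trivial_mod_aux (hS : IsPGroup p S) (hE : E.IsWeaklyNormalIn F p) {Q W V : Subgroup Ω}
    {R : Subgroup (MulAut Q)} (hQT : Q ≤ T) (hfc : F.IsFullyCentralized Q)
    (hR : R ≤ autInducedBy S Q) (hI : Inn Q ≤ R) (hW : W = pre S Q R)
    (hWT : ∀ w ∈ W, ∃ t ∈ W ⊓ T, t⁻¹ * w ∈ centralizerIn S Q)
    (hV : V = W ⊓ T ⊔ centralizerIn S (W ⊓ T)) (hVn : F.IsFullyNormalized V)
    {y : MulAut Q} (hcop : (orderOf y).Coprime p) (hnorm : ∀ α ∈ R, y * α * y⁻¹ ∈ R)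
    {γ : MulAut V} (hγ : IsTriv F E Q (W ⊓ T) γ) (hγQ : ∀ x ∈ Q, autFun γ x = autFun y x) :
    ∃ g, IsMap F W g ∧ (∀ x ∈ W, g x ∈ W) ∧ (∀ x ∈ Q, g x = autFun y x) ∧
      ∀ w ∈ W, w⁻¹ * g w ∈ T := by
  obtain ⟨-, hF, hinv⟩ := id hE
  have hsc := hinv.2.1
  have hQS := hQT.trans hsc.1
  have hWS : W ≤ S := hW ▸ pre_le
  set W₁ := W ⊓ T
  have hW₁W : W₁ ≤ W := inf_le_left
  have hW₁T : W₁ ≤ T := inf_le_right
  have hQW : Q ≤ W := hW ▸ le_pre hQS hI
  have hQW₁ : Q ≤ W₁ := le_inf hQW hQT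
  have hCW : centralizerIn S Q ≤ W := hW ▸ centralizerIn_le_pre
  have hW₁V : W₁ ≤ V := hV ▸ le_sup_left
  have hQV : Q ≤ V := hQW₁.trans hW₁V
  have hVW : V ≤ W := hV ▸ sup_le hW₁W ((NormCent.centralizerIn_anti hQW₁).trans hCW)
  have hVS : V ≤ S := hVW.trans hWS
  have hWQ : ∀ w ∈ W, w ∈ Subgroup.normalizer (Q : Set Ω) := fun w hw =>
    (pre_le_normalizerIn (hW ▸ hw : w ∈ pre S Q R)).2
  haveI := finite_of_le hWS
  haveI := finite_of_le hVS
  haveI := finite_of_le hQS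
  haveI : Finite (MulAut V) := NormCent.finite_mulAut V
  haveI : Finite (MulAut Q) := NormCent.finite_mulAut Q
  have hWW₁ : ∀ w ∈ W, w ∈ Subgroup.normalizer (W₁ : Set Ω) := fun w hw => by
    haveI := finite_of_le (hW₁W.trans hWS)
    exact mem_normalizer_of_maps_finite fun x hx =>
      ⟨W.mul_mem (W.mul_mem hw hx.1) (W.inv_mem hw),
        conj_mem_of_mem_normalizer (normalizes_of_stronglyClosed hsc (hWS hw)) hx.2⟩
  have hWV : ∀ w ∈ W, w ∈ Subgroup.normalizer (V : Set Ω) := fun w hw =>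
    mem_normalizer_of_maps_finite fun x hx => by
      rw [hV] at hx ⊢
      obtain ⟨a, ha, c, hc, rfl⟩ := NormCent.mem_sup_centralizerIn.mp hx
      rw [show w * (a * c) * w⁻¹ = (w * a * w⁻¹) * (w * c * w⁻¹) by group]
      refine Subgroup.mul_mem _ (Subgroup.mem_sup_left (conj_mem_of_mem_normalizer (hWW₁ w hw) ha))
        (Subgroup.mem_sup_right (Fusion.mem_centralizerIn.mpr
          ⟨S.mul_mem (S.mul_mem (hWS hw) hc.1) (S.inv_mem (hWS hw)), fun z hz => ?_⟩))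
      have hz' := conj_mem_of_mem_normalizer (Subgroup.inv_mem _ (hWW₁ w hw)) hz
      calc w * c * w⁻¹ * z * (w * c * w⁻¹)⁻¹
          = w * (c * (w⁻¹ * z * w⁻¹⁻¹) * c⁻¹) * w⁻¹ := by group
        _ = z := by rw [(Fusion.mem_centralizerIn.mp hc).2 _ hz']; group
  obtain ⟨-, hfaV, hrecV⟩ := fullyNormalized_props hS hF hVn
  set N := trivGroup F E hQW₁ hW₁V hW₁T (V := V)
  set P := autInducedBy W V
  have hPp : IsPGroup p P := (isPGroup_autInducedBy hS V).to_le (autInducedBy_mono hWS)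
  have hPconj : ∀ a ∈ P, ∃ (w : Ω) (hw : w ∈ W), a = conjAut V w (hWV w hw) := fun a ha => by
    obtain ⟨w, hw, ew⟩ := mem_autInducedBy.mp ha
    exact ⟨w, hw, NFam.eq_conjAut _ ew⟩
  have hcval : ∀ w (hw : w ∈ W), ∀ x ∈ V, autFun (conjAut V w (hWV w hw)) x = w * x * w⁻¹ :=
    fun w hw x hx => by rw [autFun_apply_mem _ hx]; exact conjAut_apply _ _
  have hPN : P ≤ Subgroup.normalizer (N : Set (MulAut V)) :=
    NormCent.le_normalizer_of_conj fun a ha δ hδ => by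
      obtain ⟨w, hw, rfl⟩ := hPconj a ha
      exact IsTriv.conj hinv hQW₁ hW₁V hW₁T hVS (hWS hw) (hWQ w hw) (hWW₁ w hw) _ hδ
  have hres : ∀ {a b : MulAut V} {α β : MulAut Q}, (∀ x ∈ Q, autFun a x = autFun α x) →
      (∀ x ∈ Q, autFun b x = autFun β x) → ∀ x ∈ Q, autFun (a * b) x = autFun (α * β) x :=
    fun ha hb x hx => by
      rw [autFun_mul _ _ hx, autFun_mul _ _ (hQV hx), hb x hx, ha _ (autFun_mem _ hx)]
  have hresInv : ∀ {a : MulAut V} {α : MulAut Q}, (∀ x ∈ Q, autFun a x = autFun α x) →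
      ∀ x ∈ Q, autFun a⁻¹ x = autFun α⁻¹ x := fun {a} {α} ha x hx => by
    have hx' := autFun_mem α⁻¹ hx
    conv_lhs => rw [← autFun_inv_apply α hx, ← ha _ hx']
    exact autFun_inv_apply' a (hQV hx')
  let H₂ : Subgroup (MulAut V) :=
    { carrier := {h | h ∈ P ⊔ N ∧ ∃ α ∈ R, ∀ x ∈ Q, autFun h x = autFun α x}
      one_mem' := ⟨one_mem _, 1, one_mem _, fun x hx => by
        rw [autFun_one hx, autFun_one (hQV hx)]⟩
      mul_mem' := fun {a b} ha hb => by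
        obtain ⟨ha, α, hα, eα⟩ := ha
        obtain ⟨hb, β, hβ, eβ⟩ := hb
        exact ⟨mul_mem ha hb, α * β, mul_mem hα hβ, hres eα eβ⟩
      inv_mem' := fun {a} ha => by
        obtain ⟨ha, α, hα, eα⟩ := ha
        exact ⟨Subgroup.inv_mem _ ha, α⁻¹, R.inv_mem hα, hresInv eα⟩ }
  have hPH : P ≤ H₂ := fun a ha => by
    obtain ⟨w, hw, rfl⟩ := hPconj a ha
    obtain ⟨-, α, hα, eα⟩ := mem_pre.mp (hW ▸ hw : w ∈ pre S Q R)
    exact ⟨Subgroup.mem_sup_left ha, α, hα, fun x hx => by rw [hcval w hw x (hQV hx), eα x hx]⟩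
  have hH₂F : H₂ ≤ F.autGroup V := fun h hh =>
    sup_le ((autInducedBy_mono hWS).trans (autInducedBy_le hVS)) (fun δ hδ => IsTriv.mem hδ) hh.1
  have hmax : ∀ {X : Subgroup (MulAut V)}, IsPGroup p X → P ≤ X → X ≤ H₂ → X = P := by
    intro X hXp hPX hXH
    obtain ⟨μ, hμ, hμX⟩ := exists_conj_into_autS hfaV hXp (hXH.trans hH₂F)
    have hμm := (isMap_autFun hVS).mpr hμ
    have hμQ := hμm.mono hQV
    set φ := normalizerInHom S V
    set X' := X.map (MulAut.conj μ).toMonoidHom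
    have hX'φ : X' ≤ φ.range := by
      rw [range_normalizerInHom]
      rintro _ ⟨x, hx, rfl⟩
      exact hμX x hx
    set A := X'.comap φ
    have hA : A.map (normalizerIn S V).subtype ≤
        pre S (img Q (autFun μ)) (R.map (MulAut.congr (hμQ.equiv rfl)).toMonoidHom) := by
      rintro _ ⟨s, ⟨x, hx, hxs⟩, rfl⟩
      obtain ⟨-, α, hα, eα⟩ := hXH hx
      have hs2 : ∀ z ∈ Q, (s : Ω) * autFun μ z * (s : Ω)⁻¹ = autFun μ (autFun α z) := fun z hz => by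
        have hzV := autFun_mem μ (hQV hz)
        have h1 : (normalizerInHom S V s ⟨_, hzV⟩ : Ω) = (s : Ω) * autFun μ z * (s : Ω)⁻¹ := rfl
        rw [← h1, ← autFun_apply, ← eα z hz]
        show autFun (φ s) _ = _
        rw [← hxs]
        show autFun (μ * x * μ⁻¹) (autFun μ z) = _
        rw [autFun_mul _ _ hzV, autFun_inv_apply' μ (hQV hz), autFun_mul _ _ (hQV hz)]
      haveI := finite_of_le hμQ.img_le
      refine ⟨⟨s.2.1, mem_normalizer_of_maps_finite fun y hy => ?_⟩, _, ⟨α, hα, rfl⟩,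
        fun y hy => ?_⟩
      · obtain ⟨z, hz, rfl⟩ := hμQ.mem_img.mp hy
        show (s : Ω) * _ * (s : Ω)⁻¹ ∈ _
        rw [hs2 z hz]
        exact IsMap.apply_mem_img (autFun_mem α hz)
      · obtain ⟨z, hz, rfl⟩ := hμQ.mem_img.mp hy
        show autFun (MulAut.congr (hμQ.equiv rfl) α) (autFun μ z) = _
        rw [congr_equiv_spec hμQ rfl α hz]
        exact (hs2 z hz).symm
    have hWN : W ≤ normalizerIn S V := fun w hw => ⟨hWS hw, hWV w hw⟩
    set W' := W.subgroupOf (normalizerIn S V)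
    have hkerW : φ.ker ≤ W' := fun s hs => by
      have hs' : φ s = 1 := hs
      refine hCW (Fusion.mem_centralizerIn.mpr ⟨s.2.1, fun x hx => ?_⟩)
      have h1 : (normalizerInHom S V s ⟨x, hQV hx⟩ : Ω) = (s : Ω) * x * (s : Ω)⁻¹ := rfl
      show (s : Ω) * x * (s : Ω)⁻¹ = x
      rw [← h1]
      show ((φ s) ⟨x, hQV hx⟩ : Ω) = x
      rw [hs']
      rfl
    have hWP : W'.map φ = P := by
      refine le_antisymm ?_ fun a ha => ?_
      · rintro _ ⟨s, hs, rfl⟩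
        exact mem_autInducedBy.mpr ⟨s, hs, fun x => rfl⟩
      · obtain ⟨w, hw, rfl⟩ := hPconj a ha
        exact ⟨⟨w, hWN hw⟩, hw, rfl⟩
    have hkerA : φ.ker ≤ A := MonoidHom.ker_le_comap _ _
    have hAle : Nat.card A ≤ Nat.card W' := by
      rw [← Subgroup.card_map_of_injective (normalizerIn S V).subtype_injective,
        Nat.card_congr (Subgroup.subgroupOfEquivOfLe hWN).toEquiv]
      haveI : Finite (pre S (img Q (autFun μ))
          (R.map (MulAut.congr (hμQ.equiv rfl)).toMonoidHom)) := finite_of_le pre_le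
      refine (Subgroup.card_le_of_le hA).trans ?_
      rw [hW]
      exact card_pre_le (receptive_of_fullyCentralized hS hF hfc) hR hμQ rfl
    rw [card_eq_ker_mul φ hkerA, card_eq_ker_mul φ hkerW, hWP,
      Subgroup.map_comap_eq_self hX'φ] at hAle
    haveI : Finite (normalizerIn S V) := finite_of_le inf_le_left
    have h1 := Nat.le_of_mul_le_mul_left hAle Nat.card_pos
    rw [Subgroup.card_map_of_injective (f := (MulAut.conj μ).toMonoidHom)
      (MulAut.conj μ).injective] at h1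
    exact (Subgroup.eq_of_le_of_card_ge hPX h1).symm
  -- Sylow in `H₂`
  let P₀ : Sylow p H₂ :=
    { toSubgroup := P.subgroupOf H₂
      isPGroup' := hPp.comap_of_injective _ (Subgroup.subtype_injective _)
      is_maximal' := fun {X} hX hPX => by
        have h1 := hmax (hX.map H₂.subtype)
          (fun a ha => ⟨⟨a, hPH ha⟩, hPX ha, rfl⟩) (Subgroup.map_subtype_le X)
        rw [← Subgroup.comap_map_eq_self_of_injective (Subgroup.subtype_injective H₂) X, h1]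
        rfl }
  have hγH : γ ∈ P ⊔ N := Subgroup.mem_sup_right hγ
  have hγn : ∀ a ∈ H₂, γ * a * γ⁻¹ ∈ H₂ := fun a ha => by
    obtain ⟨ha, α, hα, eα⟩ := ha
    exact ⟨mul_mem (mul_mem hγH ha) (Subgroup.inv_mem _ hγH), _, hnorm α hα,
      hres (hres hγQ eα) (hresInv hγQ)⟩
  obtain ⟨T₀, hT₀⟩ : ∃ T₀ : Sylow p H₂,
      (P.map (MulAut.conj γ).toMonoidHom).subgroupOf H₂ ≤ T₀ :=
    (((hPp.map _).comap_of_injective _ (Subgroup.subtype_injective H₂)) :
      IsPGroup p ((P.map (MulAut.conj γ).toMonoidHom).subgroupOf H₂)).exists_le_sylow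
  obtain ⟨k, hk⟩ := MulAction.exists_smul_eq H₂ T₀ P₀
  have hkP : ∀ a ∈ P, (k : MulAut V) * (γ * a * γ⁻¹) * (k : MulAut V)⁻¹ ∈ P := fun a ha => by
    have hm : k * ⟨γ * a * γ⁻¹, hγn a (hPH ha)⟩ * k⁻¹ ∈
        ((k • T₀ : Sylow p H₂) : Subgroup H₂) :=
      ⟨⟨γ * a * γ⁻¹, hγn a (hPH ha)⟩, hT₀ ⟨a, ha, rfl⟩, rfl⟩
    rw [hk] at hm
    exact hm
  obtain ⟨hkH, α, hα, eα⟩ := k.2
  obtain ⟨s₀, hs₀, es₀⟩ := mem_autInducedBy.mp (hR hα)
  have hs₀W : s₀ ∈ W := hW ▸ ⟨⟨hs₀, mem_normalizer_of_mem_autInducedBy es₀⟩, α, hα,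
    fun x hx => by rw [autFun_apply_mem α hx]; exact es₀ ⟨x, hx⟩⟩
  set c₀ := conjAut V s₀ (hWV s₀ hs₀W)
  have hc₀P : c₀ ∈ P := conjAut_mem_autInducedBy _ hs₀W
  have hc₀Q : ∀ x ∈ Q, autFun c₀ x = autFun α x := fun x hx => by
    rw [hcval s₀ hs₀W x (hQV hx), autFun_apply_mem α hx]
    exact (es₀ ⟨x, hx⟩).symm
  set δ₁ := c₀⁻¹ * (k : MulAut V) * γ
  have hδ₁Q : ∀ x ∈ Q, autFun δ₁ x = autFun y x := fun x hx => by
    rw [hres (hres (hresInv hc₀Q) eα) hγQ x hx, inv_mul_cancel, one_mul]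
  have hδ₁H : δ₁ ∈ P ⊔ N :=
    mul_mem (mul_mem (Subgroup.inv_mem _ (Subgroup.mem_sup_left hc₀P)) hkH) hγH
  have hδ₁P : δ₁ ∈ Subgroup.normalizer (P : Set (MulAut V)) := by
    haveI : Finite P := inferInstance
    refine mem_normalizer_of_maps_finite fun a ha => ?_
    have h1 := mul_mem (mul_mem (inv_mem hc₀P) (hkP a ha)) hc₀P
    convert h1 using 1
    simp only [δ₁]
    group
  obtain ⟨e, he, heQ⟩ := NormCent.exists_coprime_agree hVS hQV hδ₁Q hcop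
  set δ := δ₁ ^ e
  have hδ : IsTriv F E Q W₁ δ := mem_of_coprime_sup hPp hPN (pow_mem hδ₁H e) he
  have hδP : δ ∈ Subgroup.normalizer (P : Set (MulAut V)) := pow_mem hδ₁P e
  have hδm := (isMap_autFun hVS).mpr hδ.mem
  obtain ⟨g₀, hg₀, eg₀⟩ := receptive_extend hrecV hδm (img_autFun δ)
  have hcw : ∀ w (hw : w ∈ W), ∃ (w' : Ω) (hw' : w' ∈ W),
      δ * conjAut V w (hWV w hw) * δ⁻¹ = conjAut V w' (hWV w' hw') := fun w hw =>
    hPconj _ (conj_mem_of_mem_normalizer hδP (conjAut_mem_autInducedBy _ hw))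
  have hcwv : ∀ w (hw : w ∈ W), ∀ (w' : Ω) (hw' : w' ∈ W),
      δ * conjAut V w (hWV w hw) * δ⁻¹ = conjAut V w' (hWV w' hw') →
      ∀ x ∈ V, autFun δ (w * x * w⁻¹) = w' * autFun δ x * w'⁻¹ := fun w hw w' hw' e' x hx => by
    rw [← hcval w' hw' _ (autFun_mem δ hx), ← e', autFun_mul _ _ (autFun_mem δ hx),
      autFun_inv_apply' δ hx, autFun_mul _ _ hx, hcval w hw x hx]
  have hWext : W ≤ extSub S V (autFun δ) := fun w hw => by
    obtain ⟨w', hw', e'⟩ := hcw w hw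
    exact mem_extSub.mpr ⟨hWS hw, hWV w hw, w', hWS hw', hcwv w hw w' hw' e'⟩
  have hg₀W := hg₀.mono hWext
  have hg₀in : ∀ w ∈ W, g₀ w ∈ W := fun w hw => by
    obtain ⟨w', hw', e'⟩ := hcw w hw
    suffices h : w'⁻¹ * g₀ w ∈ centralizerIn S Q by
      have := W.mul_mem hw' (hCW h)
      rwa [mul_inv_cancel_left] at this
    refine Fusion.mem_centralizerIn.mpr
      ⟨S.mul_mem (S.inv_mem (hWS hw')) (hg₀W.mem_S hw), fun q hq => ?_⟩
    obtain ⟨x, hx, rfl⟩ : ∃ x ∈ V, autFun δ x = q :=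
      ⟨_, autFun_mem δ⁻¹ (hQV hq), autFun_inv_apply δ (hQV hq)⟩
    have h1 := hg₀W.map_conj hw (hVW hx)
    rw [eg₀ x hx, eg₀ _ (conj_mem_of_mem_normalizer (hWV w hw) hx), hcwv w hw w' hw' e' x hx] at h1
    calc w'⁻¹ * g₀ w * autFun δ x * (w'⁻¹ * g₀ w)⁻¹
        = w'⁻¹ * (g₀ w * autFun δ x * (g₀ w)⁻¹) * w' := by group
      _ = autFun δ x := by rw [← h1]; group
  obtain ⟨μ₁, hμ₁, eμ₁⟩ := hg₀W.exists_aut (img_eq_of_apply hg₀W le_rfl hg₀in)
  obtain ⟨e₁, he₁, heV⟩ := NormCent.exists_coprime_agree hWS hVW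
    (fun x hx => (eμ₁ x (hVW hx)).trans (eg₀ x hx)) he
  set μ := μ₁ ^ e₁
  have hμm : IsMap F W (autFun μ) := (isMap_autFun hWS).mpr (pow_mem hμ₁ e₁)
  refine ⟨autFun μ, hμm, fun x hx => autFun_mem μ hx, fun x hx => ?_, fun w hw => ?_⟩
  · rw [heV x (hQV hx), heQ x hx]
  set z := w⁻¹ * autFun μ w
  have hzW : z ∈ W := W.mul_mem (W.inv_mem hw) (autFun_mem μ hw)
  have hzc : IsTriv F E Q W₁ (conjAut V z (hWV z hzW)) := by
    have h1 : IsTriv F E Q W₁ ((conjAut V w⁻¹ (hWV _ (W.inv_mem hw))) * δ *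
        (conjAut V w⁻¹ (hWV _ (W.inv_mem hw)))⁻¹ * δ⁻¹) :=
      IsTriv.mul hQW₁ hW₁V (IsTriv.conj hinv hQW₁ hW₁V hW₁T hVS (hWS (W.inv_mem hw))
        (hWQ _ (W.inv_mem hw)) (hWW₁ _ (W.inv_mem hw)) _ hδ) (N.inv_mem hδ)
    convert h1 using 1
    refine NFam.eq_of_autFun fun x hx => ?_
    have hd := autFun_mem δ⁻¹ hx
    have hinvc : autFun (conjAut V w⁻¹ (hWV _ (W.inv_mem hw)))⁻¹ (autFun δ⁻¹ x) =
        w * autFun δ⁻¹ x * w⁻¹ := by
      have hu := conj_mem_of_mem_normalizer (hWV w hw) hd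
      have h2 : autFun (conjAut V w⁻¹ (hWV _ (W.inv_mem hw))) (w * autFun δ⁻¹ x * w⁻¹) =
          autFun δ⁻¹ x := by rw [hcval _ (W.inv_mem hw) _ hu]; group
      conv_lhs => rw [← h2]
      exact autFun_inv_apply' _ hu
    have hu := conj_mem_of_mem_normalizer (hWV w hw) hd
    rw [autFun_mul _ _ hx, autFun_mul _ _ hd, hinvc, autFun_mul _ _ hu,
      hcval _ (W.inv_mem hw) _ (autFun_mem δ hu), hcval z hzW x hx, ← heV _ hu,
      hμm.map_conj hw (hVW hd), heV _ hd, autFun_inv_apply δ hx]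
    simp only [z]
    group
  have hzV : z ∈ V := by
    obtain ⟨t, ht, hv⟩ := hWT z hzW
    set v := t⁻¹ * z
    have hCN : ∀ c ∈ centralizerIn S Q, c ∈ Subgroup.normalizer (W₁ : Set Ω) := fun c hc =>
      hWW₁ c (hCW hc)
    have hvE : conjAut W₁ v (hCN v hv) ∈ E.autGroup W₁ := by
      refine (isMap_autFun hW₁T).mp (((hzc.sub.comp
        (isMap_conj (F := E) hW₁T (T.inv_mem ht.2)) hzc.top)).congr fun x hx => ?_)
      show autFun (conjAut W₁ v (hCN v hv)) x = t⁻¹ * autFun (conjAut V z (hWV z hzW)) x * t⁻¹⁻¹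
      rw [autFun_apply_mem _ hx, conjAut_apply, hcval z hzW x (hW₁V hx)]
      simp only [v]
      group
    obtain ⟨q, hq, hqv⟩ := exists_mem_centralizer_mul hS hE hQW₁ hW₁T hfc hCN hv hvE
    have hqW₁ : q ∈ W₁ := ⟨hCW ⟨hsc.1 hq.1, hq.2⟩, hq.1⟩
    rw [show z = t * (q * (q⁻¹ * v)) by simp only [v]; group]
    refine V.mul_mem (hW₁V ht) (V.mul_mem (hW₁V hqW₁) ?_)
    rw [hV]
    exact Subgroup.mem_sup_right hqv
  have hVn₁ : V ≤ Subgroup.normalizer (W₁ : Set Ω) := fun x hx => hWW₁ x (hVW hx)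
  have hit : ∀ i : ℕ, ∃ v ∈ W₁, autFun (μ ^ i) w = w * z ^ i * v := by
    intro i
    induction i with
    | zero => exact ⟨1, W₁.one_mem, by rw [pow_zero, autFun_one hw, pow_zero, mul_one, mul_one]⟩
    | succ i ih =>
      obtain ⟨v, hv, e'⟩ := ih
      obtain ⟨v', hv', e''⟩ := NormCent.mul_pow_mod hVn₁ hzV (hδ.tmod z hzV) i
      refine ⟨v' * autFun δ v, W₁.mul_mem hv' (hδ.top v hv), ?_⟩
      rw [pow_succ', autFun_mul _ _ hw, e', hμm.map_mul (W.mul_mem hw (W.pow_mem hzW i)) (hW₁W hv),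
        hμm.map_mul hw (W.pow_mem hzW i), hμm.map_pow hzW, heV z hzV, heV v (hW₁V hv),
        show autFun δ z = z * (z⁻¹ * autFun δ z) by group, e'',
        show autFun μ w = w * z by simp only [z]; group, pow_succ']
      group
  obtain ⟨v, hv, e'⟩ := hit (orderOf μ)
  rw [pow_orderOf_eq_one, autFun_one hw] at e'
  have hzm : z ^ orderOf μ ∈ W₁ := by
    rw [show z ^ orderOf μ = w⁻¹ * (w * z ^ orderOf μ * v) * v⁻¹ by group, ← e', inv_mul_cancel,
      one_mul]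
    exact W₁.inv_mem hv
  obtain ⟨i, hi⟩ := NormCent.exists_pow_eq_one hS (hWS hzW)
  exact hW₁T (NormCent.mem_of_pow_mem_coprime hi he₁ hzm)

end Cfsg.Lib.Fusion.Meet
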