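import Cfsg.Agent.Fusion.Meet.Core
import Cfsg.Agent.Fusion.StableReduce

/-!
An automorphism in a normal subsystem normalizing induced automorphisms extends to their
preimage, trivially modulo the subsystem.
-/

set_option autoImplicit false
set_option linter.unusedSectionVars false
set_option linter.style.haveILetI false

namespace Cfsg.Lib.Fusion.Meet

open Cfsg Cfsg.FusionSystem Cfsg.Lib.Fusion

universe u

variable {Ω : Type u} [Group Ω] {S T : Subgroup Ω} {F : FusionSystem S} {E : FusionSystem T}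
  {p : ℕ} [Finite S] [Fact p.Prime]

theorem exists_trivial_mod (hS : IsPGroup p S) (hE : E.IsNormalIn F p) {Q : Subgroup Ω}
    (hQT : Q ≤ T) (hn : F.IsFullyNormalized Q) {R : Subgroup (MulAut Q)}
    (hR : R ≤ autInducedBy S Q ⊓ E.autGroup Q) (hI : Inn Q ≤ R) {y : MulAut Q}
    (hy : y ∈ E.autGroup Q) (hcop : (orderOf y).Coprime p)
    (hnorm : ∀ α ∈ R, y * α * y⁻¹ ∈ R) :
    ∃ g, IsMap F (pre S Q R) g ∧ (∀ x ∈ Q, g x = autFun y x) ∧
      ∀ w ∈ pre S Q R, w⁻¹ * g w ∈ T := by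
  obtain ⟨hEs, hF, hinv⟩ := hE.1
  have hsc := hinv.2.1
  have hTS := hsc.1
  have hQS := hQT.trans hTS
  have hRS : R ≤ autInducedBy S Q := hR.trans inf_le_left
  have hRT : R ≤ autInducedBy T Q := hR.trans (induced_inf_le hS hE.1 hQT hn)
  haveI := finite_of_le hTS
  have hTp : IsPGroup p T := hS.of_injective _ (Subgroup.inclusion_injective hTS)
  set W := pre S Q R
  set W₁ := W ⊓ T
  have hWS : W ≤ S := pre_le
  have hW₁T : W₁ ≤ T := inf_le_right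
  have hW₁W : W₁ ≤ W := inf_le_left
  haveI := finite_of_le hWS
  haveI := finite_of_le (hW₁T.trans hTS)
  have hQW : Q ≤ W := le_pre hQS hI
  have hQW₁ : Q ≤ W₁ := le_inf hQW hQT
  have hCW : centralizerIn S Q ≤ W := centralizerIn_le_pre
  have hCTW : centralizerIn T Q ≤ W₁ := fun c hc => ⟨hCW ⟨hTS hc.1, hc.2⟩, hc.1⟩
  have hWQ : ∀ w ∈ W, w ∈ Subgroup.normalizer (Q : Set Ω) := fun w hw =>
    (pre_le_normalizerIn hw).2
  have hpick : ∀ α ∈ R, ∃ t ∈ W₁, ∀ x ∈ Q, autFun α x = t * x * t⁻¹ := fun α hα => by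
    obtain ⟨t, ht, et⟩ := mem_autInducedBy.mp (hRT hα)
    have e : ∀ x ∈ Q, autFun α x = t * x * t⁻¹ := fun x hx => by
      rw [autFun_apply_mem α hx]; exact et ⟨x, hx⟩
    exact ⟨t, ⟨⟨⟨hTS ht, mem_normalizer_of_mem_autInducedBy et⟩, α, hα, e⟩, ht⟩, e⟩
  have hWT : ∀ w ∈ W, ∃ t ∈ W₁, t⁻¹ * w ∈ centralizerIn S Q := fun w hw => by
    obtain ⟨-, α, hα, eα⟩ := mem_pre.mp hw
    obtain ⟨t, ht, et⟩ := hpick α hα
    refine ⟨t, ht, Fusion.mem_centralizerIn.mpr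
      ⟨S.mul_mem (S.inv_mem (hWS (hW₁W ht))) (hWS hw), fun x hx => ?_⟩⟩
    calc t⁻¹ * w * x * (t⁻¹ * w)⁻¹ = t⁻¹ * (w * x * w⁻¹) * t := by group
      _ = x := by rw [← eα x hx, et x hx]; group
  have hW₁c : E.IsCentric W₁ :=
    centric_of_le (StableReduce.carries_sup_centralizer hTp hEs
      (NormCent.fullyNormalized_sub hS hF hinv hQT hn)).2 (sup_le hQW₁ hCTW) hW₁T
  -- inside the subsystem
  have hym := (isMap_autFun hQT).mpr hy
  obtain ⟨g, hg, eg⟩ := receptive_extend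
    (fullyNormalized_props hTp hEs (NormCent.fullyNormalized_sub hS hF hinv hQT hn)).2.2 hym
    (img_autFun y)
  have hconj : ∀ t ∈ W₁, ∃ β ∈ R, ∀ x ∈ Q, autFun y (t * x * t⁻¹) = autFun β (autFun y x) :=
    fun t ht => by
      obtain ⟨-, α, hα, eα⟩ := mem_pre.mp ht.1
      refine ⟨_, hnorm α hα, fun x hx => ?_⟩
      rw [autFun_mul _ _ (autFun_mem y hx), autFun_inv_apply' y hx, autFun_mul _ _ hx, eα x hx]
  have hle : W₁ ≤ extSub T Q (autFun y) := fun t ht => by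
    obtain ⟨β, hβ, eβ⟩ := hconj t ht
    obtain ⟨t', ht', et'⟩ := hpick β hβ
    exact mem_extSub.mpr ⟨ht.2, hWQ t ht.1, t', ht'.2, fun x hx => by
      rw [eβ x hx, et' _ (autFun_mem y hx)]⟩
  have hg₁ := hg.mono hle
  have hgin : ∀ t ∈ W₁, g t ∈ W₁ := fun t ht => by
    obtain ⟨β, hβ, eβ⟩ := hconj t ht
    have hgn := hg₁.mem_normalizerIn hQW₁ ht (hWQ t ht.1)
    rw [(img_congr eg).trans (img_autFun y)] at hgn
    refine ⟨⟨⟨hTS hgn.1, hgn.2⟩, β, hβ, fun z hz => ?_⟩, hgn.1⟩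
    rw [← autFun_inv_apply y hz, ← eβ _ (autFun_mem _ hz), ← eg _ (autFun_mem _ hz),
      ← eg _ (conj_mem_of_mem_normalizer (hWQ t ht.1) (autFun_mem _ hz)),
      hg₁.map_conj ht (hQW₁ (autFun_mem _ hz))]
  obtain ⟨ε₀, hε₀, eε₀⟩ := hg₁.exists_aut (img_eq_of_apply hg₁ le_rfl hgin)
  obtain ⟨n₀, hn₀, eεQ⟩ := NormCent.exists_coprime_agree hW₁T hQW₁
    (fun x hx => (eε₀ x (hQW₁ hx)).trans (eg x hx)) hcop
  set ε := ε₀ ^ n₀
  have hε : ε ∈ E.autGroup W₁ := pow_mem hε₀ n₀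
  obtain ⟨G, hG, eG, hGc⟩ := NExt.goodExt hS hE hW₁c ε hε
  set V := W₁ ⊔ centralizerIn S W₁
  have hVS : V ≤ S := sup_le (hW₁T.trans hTS) inf_le_left
  have hW₁V : W₁ ≤ V := le_sup_left
  haveI := finite_of_le hVS
  obtain ⟨κ, hκ, eκ⟩ := hG.exists_aut (img_eq_of_apply hG le_rfl
    (NormCent.mem_of_lift hG (fun x hx => eG x hx ▸ autFun_mem ε hx) hGc))
  obtain ⟨n, hγo, eγ⟩ := NormCent.exists_coprime_agree hVS hW₁V
    (fun x hx => (eκ x (hW₁V hx)).trans (eG x hx)) hn₀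
  set γ := κ ^ n
  have hκm := (isMap_autFun hVS).mpr hκ
  have hκmod : ∀ x ∈ V, x⁻¹ * autFun κ x ∈ W₁ := fun x hx => by
    obtain ⟨a, ha, c, hc, rfl⟩ := NormCent.mem_sup_centralizerIn.mp hx
    rw [eκ _ hx, hG.map_mul (Subgroup.mem_sup_left ha) (Subgroup.mem_sup_right hc), eG a ha,
      show (a * c)⁻¹ * (autFun ε a * G c) =
        (c⁻¹ * (a⁻¹ * autFun ε a) * c⁻¹⁻¹) * (c⁻¹ * G c) by group]
    exact W₁.mul_mem (conj_mem_of_mem_normalizer
      (Subgroup.inv_mem _ (centralizerIn_le_normalizerIn W₁ hc).2)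
      (W₁.mul_mem (W₁.inv_mem ha) (autFun_mem ε ha))) (hGc c hc)
  have hmod : ∀ i : ℕ, ∀ x ∈ V, x⁻¹ * autFun (κ ^ i) x ∈ W₁ := by
    intro i
    induction i with
    | zero => intro x hx; rw [pow_zero, autFun_one hx, inv_mul_cancel]; exact W₁.one_mem
    | succ i ih =>
      intro x hx
      rw [pow_succ', autFun_mul _ _ hx, show x⁻¹ * autFun κ (autFun (κ ^ i) x) =
        (x⁻¹ * autFun (κ ^ i) x) * ((autFun (κ ^ i) x)⁻¹ * autFun κ (autFun (κ ^ i) x)) by group]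
      exact W₁.mul_mem (ih x hx) (hκmod _ (autFun_mem _ hx))
  -- to a fully normalized position
  have hWV : W ≤ normalizerIn S V := fun w hw => by
    have hW₁n : ∀ v ∈ W, v ∈ Subgroup.normalizer (W₁ : Set Ω) := fun v hv =>
      mem_normalizer_of_maps_finite fun x hx =>
        ⟨W.mul_mem (W.mul_mem hv hx.1) (W.inv_mem hv),
          conj_mem_of_mem_normalizer (normalizes_of_stronglyClosed hsc (hWS hv)) hx.2⟩
    refine ⟨hWS hw, mem_normalizer_of_maps_finite fun x hx => ?_⟩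
    obtain ⟨a, ha, c, hc, rfl⟩ := NormCent.mem_sup_centralizerIn.mp hx
    rw [show w * (a * c) * w⁻¹ = (w * a * w⁻¹) * (w * c * w⁻¹) by group]
    refine Subgroup.mul_mem _ (Subgroup.mem_sup_left (conj_mem_of_mem_normalizer (hW₁n w hw) ha))
      (Subgroup.mem_sup_right (Fusion.mem_centralizerIn.mpr
        ⟨S.mul_mem (S.mul_mem (hWS hw) hc.1) (S.inv_mem (hWS hw)), fun z hz => ?_⟩))
    have hz' := conj_mem_of_mem_normalizer (Subgroup.inv_mem _ (hW₁n w hw)) hz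
    calc w * c * w⁻¹ * z * (w * c * w⁻¹)⁻¹
        = w * (c * (w⁻¹ * z * w⁻¹⁻¹) * c⁻¹) * w⁻¹ := by group
      _ = z := by rw [(Fusion.mem_centralizerIn.mp hc).2 _ hz']; group
  have hVW : V ≤ W := sup_le hW₁W ((NormCent.centralizerIn_anti hQW₁).trans hCW)
  obtain ⟨V', hVV', hn'⟩ := exists_fullyNormalized (F := F) hVS
  obtain ⟨f₀, hf₀, hi₀⟩ := isConj_iff.mp hVV'
  obtain ⟨-, hfa, hrec⟩ := fullyNormalized_props hS hF hn'
  obtain ⟨-, -, f, hf', hfV, -, -⟩ := exists_map_normalizer hS hfa hrec hf₀ hi₀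
  have hf : IsMap F W f := hf'.mono hWV
  obtain ⟨k, hk, hki, hkl, hkr⟩ := hf.exists_inv
  set Q' := img Q f
  have hfQ := hf.mono hQW
  set R' := R.map (MulAut.congr (hfQ.equiv rfl)).toMonoidHom
  set W' := img W f
  haveI := finite_of_le hQS
  have hW'S : W' ≤ S := hf.img_le
  haveI := finite_of_le hW'S
  have hQT' : Q' ≤ T := IsMap.img_le_iff.mpr fun x hx =>
    stronglyClosed_apply hsc hfQ hx (hQT hx)
  obtain ⟨hfcQ, -, hrecQ⟩ := fullyNormalized_props hS hF hn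
  have hR' : pre S Q' R' = W' := by
    haveI : Finite (pre S Q' R') := finite_of_le pre_le
    refine (Subgroup.eq_of_le_of_card_ge (img_pre_le hf hQW hfQ rfl) ?_).symm
    rw [hf.card_img]
    exact card_pre_le hrecQ hRS hfQ rfl
  have hCQ' : ∀ c ∈ centralizerIn S Q, f c ∈ centralizerIn S Q' := fun c hc =>
    hf.mem_centralizerIn hQW (hCW hc) hc
  have hfc' : F.IsFullyCentralized Q' := ⟨hfQ.img_le, fun U hU =>
    (hfcQ.2 U (isConj_trans (isConj_iff.mpr ⟨f, hfQ, rfl⟩) hU)).trans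
      (card_le_of_isMap hf hCW inf_le_left hCQ')⟩
  have hfT : ∀ x ∈ W, (f x ∈ T ↔ x ∈ T) := fun x hx => ⟨fun h => by
    rw [← hkl x hx]; exact stronglyClosed_apply hsc hk (IsMap.apply_mem_img hx) h,
    fun h => stronglyClosed_apply hsc hf hx h⟩
  have hW₁' : img W₁ f = W' ⊓ T := le_antisymm
    (IsMap.img_le_iff.mpr fun x hx =>
      ⟨IsMap.apply_mem_img (hW₁W hx), (hfT x (hW₁W hx)).mpr hx.2⟩)
    fun y hy => by
      obtain ⟨x, hx, rfl⟩ := hf.mem_img.mp hy.1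
      exact IsMap.apply_mem_img ⟨hx, (hfT x hx).mp hy.2⟩
  have hV' : V' = W' ⊓ T ⊔ centralizerIn S (W' ⊓ T) := by
    rw [← hfV, (hf'.mono (le_normalizerIn hVS)).img_sup, ← hW₁']
    congr 1
    refine le_antisymm (IsMap.img_le_iff.mpr fun c hc => hf.mem_centralizerIn hW₁W
      (hVW (Subgroup.mem_sup_right hc)) hc) fun c hc => ?_
    have hcW : c ∈ W' := by
      rw [← hR']
      exact centralizerIn_le_pre (NormCent.centralizerIn_anti (img_mono hQW₁ f) hc)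
    obtain ⟨d, hd, rfl⟩ := hf.mem_img.mp hcW
    refine IsMap.apply_mem_img (Fusion.mem_centralizerIn.mpr ⟨hWS hd, fun x hx => ?_⟩)
    refine hf.injOn (W.mul_mem (W.mul_mem hd (hW₁W hx)) (W.inv_mem hd)) (hW₁W hx) ?_
    rw [hf.map_conj hd (hW₁W hx)]
    exact (Fusion.mem_centralizerIn.mp hc).2 _ (IsMap.apply_mem_img hx)
  have hfVm := hf.mono hVW
  haveI : Finite (MulAut Q) := NormCent.finite_mulAut Q
  set y' := MulAut.congr (hfQ.equiv rfl) y
  set γ' := MulAut.congr (hfVm.equiv hfV) γ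
  have hγval : ∀ x ∈ V, autFun γ' (f x) = f (autFun γ x) := fun x hx =>
    congr_equiv_spec hfVm hfV γ hx
  have hγ' : IsTriv F E Q' (W' ⊓ T) γ' := by
    refine ⟨congr_mem_autGroup hfVm hfV (pow_mem hκ n), fun x hx => ?_, fun x hx => ?_, ?_,
      fun x hx => ?_⟩
    · rw [← hW₁'] at hx ⊢
      obtain ⟨a, ha, rfl⟩ := (hf.mono hW₁W).mem_img.mp hx
      rw [hγval a (hW₁V ha), eγ a ha]
      exact IsMap.apply_mem_img (autFun_mem ε ha)
    · obtain ⟨a, ha, rfl⟩ := hfQ.mem_img.mp hx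
      rw [hγval a (hW₁V (hQW₁ ha)), eγ a (hQW₁ ha), eεQ a ha]
      exact IsMap.apply_mem_img (autFun_mem y ha)
    · have hf1 := hf.mono hW₁W
      refine ((isMap_autFun (inf_le_right : W' ⊓ T ≤ T)).mpr
        (NormCent.congr_mem_sub hinv hW₁T hf1 hW₁' hε)).congr fun x hx => ?_
      rw [← hW₁'] at hx
      obtain ⟨a, ha, rfl⟩ := hf1.mem_img.mp hx
      rw [hγval a (hW₁V ha), eγ a ha, congr_equiv_spec hf1 hW₁' ε ha]
    · rw [← hfV] at hx
      obtain ⟨a, ha, rfl⟩ := hfVm.mem_img.mp hx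
      rw [hγval a ha, ← hfVm.map_inv ha, ← hfVm.map_mul (V.inv_mem ha) (autFun_mem γ ha), ← hW₁']
      exact IsMap.apply_mem_img (hmod n a ha)
  have hγ'Q : ∀ x ∈ Q', autFun γ' x = autFun y' x := fun x hx => by
    obtain ⟨a, ha, rfl⟩ := hfQ.mem_img.mp hx
    rw [hγval a (hW₁V (hQW₁ ha)), eγ a (hQW₁ ha), eεQ a ha, congr_equiv_spec hfQ rfl y ha]
  have hR'S : R' ≤ autInducedBy S Q' := by
    rintro _ ⟨α, hα, rfl⟩
    obtain ⟨t, ht, et⟩ := hpick α hα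
    refine mem_autInducedBy.mpr ⟨f t, hf.mem_S (hW₁W ht), fun z => ?_⟩
    obtain ⟨x, hx, hxz⟩ := hfQ.mem_img.mp z.2
    rw [← autFun_apply, ← hxz]
    show autFun (MulAut.congr (hfQ.equiv rfl) α) (f x) = _
    rw [congr_equiv_spec hfQ rfl α hx, et x hx, hf.map_conj (hW₁W ht) (hQW hx)]
  have hI' : Inn Q' ≤ R' := by
    rintro _ ⟨q', rfl⟩
    obtain ⟨q, hq, hqq⟩ := hfQ.mem_img.mp q'.2
    refine ⟨_, hI ⟨⟨q, hq⟩, rfl⟩, NFam.eq_of_autFun fun z hz => ?_⟩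
    obtain ⟨x, hx, rfl⟩ := hfQ.mem_img.mp hz
    show autFun (MulAut.congr (hfQ.equiv rfl) _) (f x) = _
    rw [congr_equiv_spec hfQ rfl _ hx, autFun_apply_mem _ hx,
      autFun_apply_mem (MulAut.conj q') hz]
    show f (q * x * q⁻¹) = (q' : Ω) * f x * (q' : Ω)⁻¹
    rw [hf.map_conj (hQW hq) (hQW hx), hqq]
  have hWT' : ∀ w ∈ W', ∃ t ∈ W' ⊓ T, t⁻¹ * w ∈ centralizerIn S Q' := fun w hw => by
    obtain ⟨a, ha, rfl⟩ := hf.mem_img.mp hw
    obtain ⟨t, ht, htc⟩ := hWT a ha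
    refine ⟨f t, hW₁' ▸ IsMap.apply_mem_img ht, ?_⟩
    rw [← hf.map_inv (hW₁W ht), ← hf.map_mul (W.inv_mem (hW₁W ht)) ha]
    exact hCQ' _ htc
  have hnorm' : ∀ α ∈ R', y' * α * y'⁻¹ ∈ R' := by
    rintro _ ⟨α, hα, rfl⟩
    refine ⟨_, hnorm α hα, ?_⟩
    rw [map_mul, map_mul, map_inv]
    rfl
  have hcop' : (orderOf y').Coprime p := by
    rw [show orderOf y' = orderOf y from
      orderOf_injective (MulAut.congr (hfQ.equiv rfl)).toMonoidHom
        (MulAut.congr (hfQ.equiv rfl)).injective y]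
    exact hcop
  obtain ⟨g', hg', hg'W, hg'Q, hg'T⟩ := trivial_mod_aux hS hE.1 hQT' hfc' hR'S hI' hR'.symm hWT'
    hV' hn' hcop' hnorm' hγ' hγ'Q
  have hfin : ∀ w ∈ W, g' (f w) ∈ W' := fun w hw => hg'W _ (IsMap.apply_mem_img hw)
  refine ⟨k ∘ (g' ∘ f), (hf.comp hg' fun w hw => IsMap.apply_mem_img hw).comp hk hfin,
    fun x hx => ?_, fun w hw => ?_⟩
  · show k (g' (f x)) = _
    rw [hg'Q _ (IsMap.apply_mem_img hx), congr_equiv_spec hfQ rfl y hx,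
      hkl _ (hQW (autFun_mem y hx))]
  · show w⁻¹ * k (g' (f w)) ∈ T
    have hfw := IsMap.apply_mem_img (f := f) hw
    rw [show w⁻¹ = (k (f w))⁻¹ by rw [hkl w hw]]
    rw [← hk.map_inv hfw, ← hk.map_mul (W'.inv_mem hfw) (hfin w hw)]
    exact stronglyClosed_apply hsc hk (W'.mul_mem (W'.inv_mem hfw) (hfin w hw)) (hg'T _ hfw)

end Cfsg.Lib.Fusion.Meet
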