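import Cfsg.Agent.S5093
import Cfsg.Agent.Fusion.FactorHyperfocal
import Cfsg.Agent.Fusion.NormalCentralizer.Basic

/-!
A criterion for the focal subgroup of a finite group to lie in a given subgroup.
-/

set_option autoImplicit false
set_option linter.unusedSectionVars false
set_option linter.style.haveILetI false

namespace Cfsg.Lib.Fusion.Meet

open Cfsg Cfsg.FusionSystem Cfsg.Lib.Fusion

universe u

variable {G : Type u} [Group G] [Finite G] {p : ℕ} [Fact p.Prime]

theorem focal_le (P : Sylow p G) (D : Subgroup G)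
    (hcomm : ∀ a ∈ (P : Subgroup G), ∀ b ∈ (P : Subgroup G), a⁻¹ * (b * a * b⁻¹) ∈ D)
    (hgen : ∀ R : Subgroup G, R ≤ P → ∀ y : G, (orderOf y).Coprime p →
      (∀ r ∈ R, y * r * y⁻¹ ∈ R) → ∀ x ∈ R, x⁻¹ * (y * x * y⁻¹) ∈ D)
    {x y : G} (hx : x ∈ (P : Subgroup G)) (hy : y * x * y⁻¹ ∈ (P : Subgroup G)) :
    x⁻¹ * (y * x * y⁻¹) ∈ D := by
  set N := Cfsg.pResidual p G with hNdef
  haveI hN : N.Normal := Cfsg.Lib.Transfer.pResidual_normal'
  have hPN : (P : Subgroup G) ⊓ N ≤ D := by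
    rw [hNdef, ← Cfsg.Agent.S5093.result p P]
    refine hyperfocal_le_of_coprime fun R hR α hα hcop r hr => ?_
    obtain ⟨g, -, eg⟩ := mem_autInducedBy.mp
      (autGroup_group (S := (P : Subgroup G)) hR ▸ hα : α ∈ autInducedBy ⊤ R)
    have hgn := mem_normalizer_of_mem_autInducedBy eg
    obtain ⟨e, he, he1⟩ := NormCent.exists_coprime_power g hcop
    have hαe : α ^ e = α := (pow_eq_pow_iff_modEq.mpr he1).trans (pow_one α)
    have hconj : ∀ i : ℕ, ∀ z ∈ R, autFun (α ^ i) z = g ^ i * z * (g ^ i)⁻¹ := by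
      intro i
      induction i with
      | zero => intro z hz; rw [pow_zero, pow_zero, autFun_one hz]; group
      | succ i ih =>
        intro z hz
        rw [pow_succ', autFun_mul _ _ hz, autFun_apply_mem α (autFun_mem _ hz), eg,
          pow_succ']
        show g * autFun (α ^ i) z * g⁻¹ = _
        rw [ih z hz]
        group
    have h1 := hgen R hR (g ^ e) he (fun z hz => by
      rw [← hconj e z hz]; exact autFun_mem _ hz) r hr
    rwa [← hconj e r hr, hαe] at h1
  obtain ⟨a, ha, m, hm, rfl⟩ := Subgroup.mem_sup_of_normal_right.mp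
    (show y ∈ (P : Subgroup G) ⊔ N by
      rw [NormCent.eq_top_of_coprime_mem ((P : Subgroup G) ⊔ N) P le_sup_left fun g hg =>
        Subgroup.mem_sup_right (Subgroup.subset_closure hg)]
      exact Subgroup.mem_top _)
  have h1 : a * (m * x * m⁻¹) * a⁻¹ ∈ (P : Subgroup G) := by
    convert hy using 1
    group
  have h2 : x⁻¹ * (m * x * m⁻¹) ∈ (P : Subgroup G) := by
    refine mul_mem (Subgroup.inv_mem _ hx) ?_
    have := mul_mem (mul_mem (Subgroup.inv_mem _ ha) h1) ha
    convert this using 1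
    group
  have h3 : x⁻¹ * (m * x * m⁻¹) ∈ N := by
    rw [show x⁻¹ * (m * x * m⁻¹) = (x⁻¹ * m * x⁻¹⁻¹) * m⁻¹ by group]
    exact N.mul_mem (hN.conj_mem m hm x⁻¹) (N.inv_mem hm)
  have h4 : a * (x⁻¹ * (m * x * m⁻¹)) * a⁻¹ ∈ D :=
    hPN ⟨mul_mem (mul_mem ha h2) (Subgroup.inv_mem _ ha), hN.conj_mem _ h3 a⟩
  have := D.mul_mem (hcomm x hx a ha) h4
  convert this using 1
  group

end Cfsg.Lib.Fusion.Meet
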