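import Cfsg.Agent.Fusion.Meet.Triv
import Cfsg.Agent.Fusion.Small.Restriction

/-!
An automorphism of order prime to `p` lies in a weakly normal subsystem when its restriction does.
-/

set_option autoImplicit false
set_option linter.unusedSectionVars false
set_option linter.style.haveILetI false

namespace Cfsg.Lib.Fusion.Meet

open Cfsg Cfsg.FusionSystem Cfsg.Lib.Fusion

universe u

variable {Ω : Type u} [Group Ω] {S T U : Subgroup Ω} {F : FusionSystem S} {E : FusionSystem U}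
  {p : ℕ} [Finite S] [Fact p.Prime]

/-- The step at a fully normalized subgroup. -/
theorem mem_sub_step (hS : IsPGroup p S) (hE : E.IsWeaklyNormalIn F p) (hT : F.StronglyClosed T)
    (hTU : T ≤ U) {Q R : Subgroup Ω} (hn : F.IsFullyNormalized Q) (hQT : Q ≤ T) (hQR : Q ≤ R)
    (hRT : R ≤ T) (hRn : R ≤ Subgroup.normalizer (Q : Set Ω)) (hcen : centralizerIn T Q ≤ Q)
    {β : MulAut R} (hβ : β ∈ F.autGroup R) (hcop : (orderOf β).Coprime p) {γ : MulAut Q}
    (hγ : γ ∈ E.autGroup Q) (e : ∀ x ∈ Q, autFun γ x = autFun β x) : β ∈ E.autGroup R := by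
  obtain ⟨hEs, hF, hinv⟩ := hE
  have hUS := hinv.2.1.1
  have hRS := hRT.trans hT.1
  have hRU := hRT.trans hTU
  have hQU := hQT.trans hTU
  haveI := finite_of_le hUS
  haveI := finite_of_le hRS
  haveI : Finite (MulAut R) := NormCent.finite_mulAut R
  have hUp : IsPGroup p U := hS.of_injective _ (Subgroup.inclusion_injective hUS)
  have hβm := (isMap_autFun hRS).mpr hβ
  obtain ⟨g, hg, eg⟩ := receptive_extend
    (fullyNormalized_props hUp hEs (NormCent.fullyNormalized_sub hS hF hinv hQU hn)).2.2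
    ((isMap_autFun hQU).mpr hγ) (img_autFun γ)
  have hle : R ≤ extSub U Q (autFun γ) := fun r hr => mem_extSub.mpr
    ⟨hRU hr, hRn hr, autFun β r, hRU (autFun_mem β hr), fun x hx => by
      rw [e _ (conj_mem_of_mem_normalizer (hRn hr) hx), e x hx, hβm.map_conj hr (hQR hx)]⟩
  have hgR := hg.mono hle
  have hdiff : ∀ r ∈ R, (autFun β r)⁻¹ * g r ∈ Q := fun r hr => hcen
    (Fusion.mem_centralizerIn.mpr ⟨T.mul_mem (T.inv_mem (hRT (autFun_mem β hr)))
      (stronglyClosed_apply hT (CharSub.isMap_of_sub hinv.1 hgR) hr (hRT hr)), fun y hy => by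
      obtain ⟨x, hx, rfl⟩ : ∃ x ∈ Q, autFun γ x = y :=
        ⟨_, autFun_mem γ⁻¹ hy, autFun_inv_apply γ hy⟩
      have h1 := hgR.map_conj hr (hQR hx)
      rw [eg x hx, eg _ (conj_mem_of_mem_normalizer (hRn hr) hx),
        e _ (conj_mem_of_mem_normalizer (hRn hr) hx), hβm.map_conj hr (hQR hx), ← e x hx] at h1
      calc (autFun β r)⁻¹ * g r * autFun γ x * ((autFun β r)⁻¹ * g r)⁻¹
          = (autFun β r)⁻¹ * (g r * autFun γ x * (g r)⁻¹) * autFun β r := by group
        _ = autFun γ x := by rw [← h1]; group⟩)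
  have hgin : ∀ r ∈ R, g r ∈ R := fun r hr => by
    have := R.mul_mem (autFun_mem β hr) (hQR (hdiff r hr))
    rwa [mul_inv_cancel_left] at this
  obtain ⟨μ, hμ, eμ⟩ := hgR.exists_aut (img_eq_of_apply hgR le_rfl hgin)
  have hμF : μ ∈ F.autGroup R :=
    (isMap_autFun hRS).mp (CharSub.isMap_of_sub hinv.1 ((isMap_autFun hRU).mpr hμ))
  have hk : β⁻¹ * μ ∈ Small.chainAut F R Q hQR := by
    refine ⟨mul_mem (Subgroup.inv_mem _ hβ) hμF, fun x hx => ?_, fun r hr => ?_⟩
    · rw [autFun_mul _ _ (hQR hx), eμ x (hQR hx), eg x hx, e x hx,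
        autFun_inv_apply' β (hQR hx)]
    · have hd := hdiff r hr
      have hval : autFun (β⁻¹ * μ) r = r * autFun β⁻¹ ((autFun β r)⁻¹ * g r) := by
        have hi := (isMap_autFun hRS).mpr (Subgroup.inv_mem _ hβ)
        rw [autFun_mul _ _ hr, eμ r hr,
          hi.map_mul (R.inv_mem (autFun_mem β hr)) (hgin r hr), hi.map_inv (autFun_mem β hr),
          autFun_inv_apply' β hr]
        group
      rw [hval]
      have hz : autFun β⁻¹ ((autFun β r)⁻¹ * g r) ∈ Q := by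
        have h1 : autFun β (autFun γ⁻¹ ((autFun β r)⁻¹ * g r)) = (autFun β r)⁻¹ * g r := by
          rw [← e _ (autFun_mem γ⁻¹ hd), autFun_inv_apply γ hd]
        rw [← h1, autFun_inv_apply' β (hQR (autFun_mem γ⁻¹ hd))]
        exact autFun_mem γ⁻¹ hd
      exact conj_mem_of_mem_normalizer (hRn hr) hz
  have hn' : Small.chainAut F R Q hQR ≤ Subgroup.normalizer (E.autGroup R : Set (MulAut R)) :=
    NormCent.le_normalizer_of_conj fun k hk a ha => by
      have hkm := (isMap_autFun hRS).mpr hk.1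
      rw [← NFam.congr_aut (β := a) hkm]
      exact NormCent.congr_mem_sub hinv hRU hkm (img_autFun k) ha
  refine mem_of_coprime_sup (Small.isPGroup_chainAut hS hQR hRS) hn' ?_ hcop
  have h2 := Subgroup.mul_mem (Small.chainAut F R Q hQR ⊔ E.autGroup R)
    (Subgroup.mem_sup_right hμ) (Subgroup.mem_sup_left (Subgroup.inv_mem _ hk))
  convert h2 using 1
  group

/-- An automorphism of order prime to `p` of a subgroup of `T` lies in the subsystem when its
restriction to a subgroup containing the centralizers of its conjugates does. -/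
theorem mem_sub_of_ext (hS : IsPGroup p S) (hE : E.IsWeaklyNormalIn F p) (hT : F.StronglyClosed T)
    (hTU : T ≤ U) {Q R : Subgroup Ω} (hQR : Q ≤ R) (hRT : R ≤ T)
    (hcen : ∀ Q', F.IsConj Q Q' → centralizerIn T Q' ≤ Q') {β : MulAut R}
    (hβ : β ∈ F.autGroup R) (hcop : (orderOf β).Coprime p) {γ : MulAut Q}
    (hγ : γ ∈ E.autGroup Q) (e : ∀ x ∈ Q, autFun γ x = autFun β x) : β ∈ E.autGroup R := by
  have hRS := hRT.trans hT.1
  haveI := finite_of_le hRS
  induction hm : Nat.card R - Nat.card Q using Nat.strong_induction_on generalizing Q with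
  | _ m ih =>
  rcases hQR.eq_or_lt with rfl | hlt
  · rw [show β = γ from NFam.eq_of_autFun fun x hx => (e x hx).symm]
    exact hγ
  set Q₂ := R ⊓ Subgroup.normalizer (Q : Set Ω)
  have hQQ₂ : Q < Q₂ := lt_inf_normalizer hS hlt hRS
  have hQ₂R : Q₂ ≤ R := inf_le_left
  have hQS := hQR.trans hRS
  haveI := finite_of_le hQS
  haveI := finite_of_le (hQ₂R.trans hRS)
  have hβm := (isMap_autFun hRS).mpr hβ
  have hin : ∀ r ∈ Q₂, autFun β r ∈ Q₂ := fun r hr =>
    ⟨autFun_mem β hr.1, mem_normalizer_of_maps_finite fun y hy => by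
      obtain ⟨x, hx, rfl⟩ : ∃ x ∈ Q, autFun γ x = y :=
        ⟨_, autFun_mem γ⁻¹ hy, autFun_inv_apply γ hy⟩
      rw [e x hx, ← hβm.map_conj hr.1 (hQR hx), ← e _ (conj_mem_of_mem_normalizer hr.2 hx)]
      exact autFun_mem γ (conj_mem_of_mem_normalizer hr.2 hx)⟩
  have hm₂ := hβm.mono hQ₂R
  obtain ⟨β₂, hβ₂, eβ₂⟩ := hm₂.exists_aut (img_eq_of_apply hm₂ le_rfl hin)
  have hpow : ∀ i : ℕ, ∀ x ∈ Q₂, autFun (β₂ ^ i) x = autFun (β ^ i) x := by
    intro i
    induction i with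
    | zero => intro x hx; rw [pow_zero, pow_zero, autFun_one hx, autFun_one hx.1]
    | succ i ih =>
      intro x hx
      rw [pow_succ', pow_succ', autFun_mul _ _ hx, autFun_mul _ _ hx.1,
        eβ₂ _ (autFun_mem _ hx), ih x hx]
  have hcop₂ : (orderOf β₂).Coprime p := hcop.coprime_dvd_left (orderOf_dvd_of_pow_eq_one
    (NFam.eq_of_autFun fun x hx => by
      rw [hpow _ x hx, pow_orderOf_eq_one, autFun_one hx.1, autFun_one hx]))
  suffices hβE : β₂ ∈ E.autGroup Q₂ by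
    refine ih (Nat.card R - Nat.card Q₂) ?_ hQ₂R (fun Q' hQ' => ?_) hβE eβ₂ rfl
    · have h1 : Nat.card Q < Nat.card Q₂ := lt_of_le_of_ne (Subgroup.card_le_of_le hQQ₂.le)
        fun h => hQQ₂.ne (Subgroup.eq_of_le_of_card_ge hQQ₂.le h.ge)
      have h2 := Subgroup.card_le_of_le hQ₂R
      omega
    · obtain ⟨f, hf, rfl⟩ := isConj_iff.mp hQ'
      refine le_trans ?_ ((hcen _ (isConj_iff.mpr ⟨f, hf.mono hQQ₂.le, rfl⟩)).trans
        (img_mono hQQ₂.le f))
      exact fun c hc => ⟨hc.1, Subgroup.centralizer_le (img_mono hQQ₂.le f) hc.2⟩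
  obtain ⟨-, hF, hinv⟩ := id hE
  obtain ⟨Q', hQQ', hn⟩ := exists_fullyNormalized (F := F) hQS
  obtain ⟨f₀, hf₀, hi₀⟩ := isConj_iff.mp hQQ'
  obtain ⟨-, hfa, hrec⟩ := fullyNormalized_props hS hF hn
  obtain ⟨-, -, f, hf, hfi, -, -⟩ := exists_map_normalizer hS hfa hrec hf₀ hi₀
  have hf₂ : IsMap F Q₂ f := hf.mono (inf_le_inf_right _ hRS)
  have hfQ := hf₂.mono hQQ₂.le
  have hQT : Q ≤ T := hQR.trans hRT
  have hT' : ∀ {P : Subgroup Ω}, P ≤ Q₂ → img P f ≤ T := fun hP =>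
    IsMap.img_le_iff.mpr fun x hx =>
      stronglyClosed_apply hT hf₂ (hP hx) (hRT (hQ₂R (hP hx)))
  haveI := finite_of_le hn.1
  have hQ₂n : img Q₂ f ≤ Subgroup.normalizer (Q' : Set Ω) := IsMap.img_le_iff.mpr fun x hx => by
    have h1 := hf₂.mem_normalizerIn hQQ₂.le hx hx.2
    rw [hfi] at h1
    exact h1.2
  have h2 := mem_sub_step hS hE hT hTU hn (hfi ▸ hT' hQQ₂.le) (hfi ▸ img_mono hQQ₂.le f)
    (hT' le_rfl) hQ₂n (hcen Q' hQQ') (congr_mem_autGroup hf₂ rfl hβ₂)
    (by rwa [MulEquiv.orderOf_eq]) (NormCent.congr_mem_sub hinv (hQT.trans hTU) hfQ hfi hγ)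
    fun y hy => by
      rw [← hfi] at hy
      obtain ⟨x, hx, rfl⟩ := hfQ.mem_img.mp hy
      rw [congr_equiv_spec hfQ hfi γ hx, congr_equiv_spec hf₂ rfl β₂ (hQQ₂.le hx),
        eβ₂ x (hQQ₂.le hx), e x hx]
  -- back
  obtain ⟨k, hk, -, hkl, -⟩ := hf₂.exists_inv
  have hki : img (img Q₂ f) k = Q₂ := le_antisymm
    (IsMap.img_le_iff.mpr fun y hy => by
      obtain ⟨x, hx, rfl⟩ := hf₂.mem_img.mp hy
      rwa [hkl x hx])
    fun x hx => by
      rw [← hkl x hx]
      exact IsMap.apply_mem_img (IsMap.apply_mem_img hx)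
  have h3 := NormCent.congr_mem_sub hinv ((hT' le_rfl).trans hTU) hk hki h2
  convert h3 using 1
  refine NFam.eq_of_autFun fun x hx => ?_
  have hfx := IsMap.apply_mem_img (f := f) hx
  conv_rhs => rw [← hkl x hx]
  rw [congr_equiv_spec hk hki _ hfx, congr_equiv_spec hf₂ rfl β₂ hx, hkl _ (autFun_mem β₂ hx)]

end Cfsg.Lib.Fusion.Meet
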