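import Cfsg.Agent.Fusion.Meet.Ext
import Cfsg.Agent.Fusion.Meet.Up
import Cfsg.Agent.Fusion.Meet.Focal
import Cfsg.Agent.Fusion.NormalFamily.Builder
import Cfsg.Agent.Fusion.Criterion.Main

/-!
The family of the automorphisms lying in two normal subsystems.
-/

set_option autoImplicit false
set_option linter.unusedSectionVars false
set_option linter.style.haveILetI false

namespace Cfsg.Lib.Fusion.Meet

open Cfsg Cfsg.FusionSystem Cfsg.Lib.Fusion

universe u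

variable {Ω : Type u} [Group Ω] {S T₁ T₂ : Subgroup Ω} {F : FusionSystem S}
  {E₁ : FusionSystem T₁} {E₂ : FusionSystem T₂} {p : ℕ}

/-- The subgroups containing the centralizers of their conjugates. -/
def members (F : FusionSystem S) (T₁ T₂ : Subgroup Ω) : Set (Subgroup Ω) :=
  {Q | Q ≤ T₁ ⊓ T₂ ∧ ∀ R, F.IsConj Q R → centralizerIn (T₁ ⊓ T₂) R ≤ R}

/-- The automorphisms in both. -/
def both (E₁ : FusionSystem T₁) (E₂ : FusionSystem T₂) (Q : Subgroup Ω) : Subgroup (MulAut Q) :=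
  E₁.autGroup Q ⊓ E₂.autGroup Q

theorem stronglyClosed_inf (h₁ : F.StronglyClosed T₁) (h₂ : F.StronglyClosed T₂) :
    F.StronglyClosed (T₁ ⊓ T₂) :=
  stronglyClosed_of_apply (inf_le_left.trans h₁.1) fun _ _ hf _ hx hxT =>
    ⟨stronglyClosed_apply h₁ hf hx hxT.1, stronglyClosed_apply h₂ hf hx hxT.2⟩

variable [Finite S] [Fact p.Prime]

theorem inn_le (hE : E₁.IsWeaklyNormalIn F p) {Q : Subgroup Ω} (hQ : Q ≤ T₁) :
    Inn Q ≤ autInducedBy S Q ⊓ E₁.autGroup Q := by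
  rintro _ ⟨q, rfl⟩
  have e : MulAut.conj q = conjAut Q q (Subgroup.le_normalizer q.2) :=
    MulEquiv.ext fun z => Subtype.ext (by rw [conjAut_apply]; rfl)
  rw [e]
  exact ⟨conjAut_mem_autInducedBy _ (hE.2.2.2.1.1 (hQ q.2)),
    autInducedBy_le hQ (conjAut_mem_autInducedBy _ (hQ q.2))⟩

/-- The focal condition. -/
theorem focal_both (hS : IsPGroup p S) (h₁ : E₁.IsNormalIn F p) (h₂ : E₂.IsNormalIn F p)
    {Q : Subgroup Ω} (hQ : Q ≤ T₁ ⊓ T₂) (hn : F.IsFullyNormalized Q) {x y : MulAut Q}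
    (hx : x ∈ both E₁ E₂ Q) (hy : y ∈ both E₁ E₂ Q) (hxS : x ∈ autInducedBy S Q)
    (hyS : y * x * y⁻¹ ∈ autInducedBy S Q) :
    x⁻¹ * (y * x * y⁻¹) ∈ autInducedBy (T₁ ⊓ T₂) Q := by
  obtain ⟨-, hF, hi₁⟩ := id h₁.1
  obtain ⟨-, -, hi₂⟩ := id h₂.1
  have hQ₁ : Q ≤ T₁ := hQ.trans inf_le_left
  have hQ₂ : Q ≤ T₂ := hQ.trans inf_le_right
  have hQS : Q ≤ S := hn.1
  haveI := finite_of_le hQS
  haveI : Finite (MulAut Q) := NormCent.finite_mulAut Q
  set X := both E₁ E₂ Q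
  have hXF : X ≤ F.autGroup Q := fun a ha => (isMap_autFun hQS).mp
    (CharSub.isMap_of_sub hi₁.1 ((isMap_autFun hQ₁).mpr ha.1))
  have hXn : ∀ μ ∈ F.autGroup Q, ∀ a ∈ X, μ * a * μ⁻¹ ∈ X := fun μ hμ a ha => by
    have hm := (isMap_autFun hQS).mpr hμ
    rw [← NFam.congr_aut (β := a) hm]
    exact ⟨NormCent.congr_mem_sub hi₁ hQ₁ hm (img_autFun μ) ha.1,
      NormCent.congr_mem_sub hi₂ hQ₂ hm (img_autFun μ) ha.2⟩
  obtain ⟨-, hfa, -⟩ := fullyNormalized_props hS hF hn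
  set A : Subgroup X := (autInducedBy S Q).subgroupOf X
  have hAp : IsPGroup p A :=
    (isPGroup_autInducedBy hS Q).comap_of_injective _ (Subgroup.subtype_injective X)
  let P : Sylow p X :=
    { toSubgroup := A
      isPGroup' := hAp
      is_maximal' := fun {Y} hY hAY => by
        obtain ⟨μ, hμ, h⟩ := exists_conj_into_autS hfa (hY.map X.subtype)
          (by rintro _ ⟨w, -, rfl⟩; exact hXF w.2)
        refine (Subgroup.eq_of_le_of_card_ge hAY ?_).symm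
        exact Nat.card_le_card_of_injective
          (fun w => (⟨⟨μ * ((w : X) : MulAut Q) * μ⁻¹, hXn μ hμ _ (w : X).2⟩,
            h _ ⟨w, w.2, rfl⟩⟩ : A))
          fun a b e => Subtype.ext (Subtype.ext (mul_left_cancel (mul_right_cancel
            (congrArg (fun z : A => ((z : X) : MulAut Q)) e)))) }
  have hP₁ : ∀ a : X, a ∈ (P : Subgroup X) → (a : MulAut Q) ∈ autInducedBy T₁ Q := fun a ha =>
    induced_inf_le hS h₁.1 hQ₁ hn ⟨ha, a.2.1⟩
  have hP₂ : ∀ a : X, a ∈ (P : Subgroup X) → (a : MulAut Q) ∈ autInducedBy T₂ Q := fun a ha =>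
    induced_inf_le hS h₂.1 hQ₂ hn ⟨ha, a.2.2⟩
  have key := focal_le P ((autInducedBy (T₁ ⊓ T₂) Q).subgroupOf X)
    (fun a ha b hb => ?_) (fun R hR v hv hvR r hr => ?_) (x := ⟨x, hx⟩) (y := ⟨y, hy⟩) hxS hyS
  · exact key
  · -- commutators
    obtain ⟨t₁, ht₁, e₁⟩ := mem_autInducedBy.mp (hP₁ a ha)
    obtain ⟨t₂, ht₂, e₂⟩ := mem_autInducedBy.mp (hP₂ b hb)
    have hn₁ := mem_normalizer_of_mem_autInducedBy e₁
    have hn₂ := mem_normalizer_of_mem_autInducedBy e₂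
    have e : ((a⁻¹ * (b * a * b⁻¹) : X) : MulAut Q) = conjAut Q (t₁⁻¹ * (t₂ * t₁ * t₂⁻¹))
        (Subgroup.mul_mem _ (Subgroup.inv_mem _ hn₁)
          (Subgroup.mul_mem _ (Subgroup.mul_mem _ hn₂ hn₁) (Subgroup.inv_mem _ hn₂))) := by
      have ea : (a : MulAut Q) = conjAut Q t₁ hn₁ :=
        MulEquiv.ext fun z => Subtype.ext ((e₁ z).trans (conjAut_apply hn₁ z).symm)
      have eb : (b : MulAut Q) = conjAut Q t₂ hn₂ :=
        MulEquiv.ext fun z => Subtype.ext ((e₂ z).trans (conjAut_apply hn₂ z).symm)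
      push_cast
      rw [ea, eb]
      simp only [conjAut, ← map_inv, ← map_mul]
      rfl
    show ((a⁻¹ * (b * a * b⁻¹) : X) : MulAut Q) ∈ autInducedBy (T₁ ⊓ T₂) Q
    rw [e]
    refine conjAut_mem_autInducedBy _ ⟨?_, ?_⟩
    · exact T₁.mul_mem (T₁.inv_mem ht₁) (conj_mem_of_mem_normalizer
        (normalizes_of_stronglyClosed hi₁.2.1 (hi₂.2.1.1 ht₂)) ht₁)
    · rw [show t₁⁻¹ * (t₂ * t₁ * t₂⁻¹) = (t₁⁻¹ * t₂ * t₁⁻¹⁻¹) * t₂⁻¹ by group]
      exact T₂.mul_mem (conj_mem_of_mem_normalizer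
        (normalizes_of_stronglyClosed hi₂.2.1 (S.inv_mem (hi₁.2.1.1 ht₁))) ht₂) (T₂.inv_mem ht₂)
  · -- coprime elements
    set R' := R.map X.subtype ⊔ Inn Q
    have hR' : R' ≤ autInducedBy S Q ⊓ E₁.autGroup Q := sup_le
      (by rintro _ ⟨w, hw, rfl⟩; exact ⟨hR hw, w.2.1⟩) (inn_le h₁.1 hQ₁)
    have hvn : ∀ c ∈ R', (v : MulAut Q) * c * (v : MulAut Q)⁻¹ ∈ R' := by
      have : R' ≤ R'.comap (MulAut.conj (v : MulAut Q)).toMonoidHom := by
        refine sup_le ?_ ?_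
        · rintro _ ⟨w, hw, rfl⟩
          exact Subgroup.mem_sup_left ⟨v * w * v⁻¹, hvR w hw, rfl⟩
        · rintro _ ⟨q, rfl⟩
          refine Subgroup.mem_sup_right ⟨(v : MulAut Q) q, MulEquiv.ext fun z => ?_⟩
          show (v : MulAut Q) q * z * ((v : MulAut Q) q)⁻¹ =
            (v : MulAut Q) (q * (v : MulAut Q)⁻¹ z * q⁻¹)
          rw [map_mul, map_mul, map_inv, MulAut.apply_inv_self]
      exact fun c hc => this hc
    obtain ⟨g, hg, egQ, hgT⟩ := exists_trivial_mod hS h₁ hQ₁ hn hR' le_sup_right v.2.1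
      (by rw [Subgroup.orderOf_coe]; exact hv) hvn
    have hrR' : (r : MulAut Q) ∈ R' := Subgroup.mem_sup_left ⟨r, hr, rfl⟩
    obtain ⟨t, ht, et⟩ := mem_autInducedBy.mp (hP₂ r (hR hr))
    have etn := mem_normalizer_of_mem_autInducedBy et
    have etv : ∀ z ∈ Q, autFun (r : MulAut Q) z = t * z * t⁻¹ := fun z hz => by
      rw [autFun_apply_mem _ hz]; exact et ⟨z, hz⟩
    have htW : t ∈ pre S Q R' := ⟨⟨hi₂.2.1.1 ht, etn⟩, r, hrR', etv⟩
    have hgt : g t ∈ T₂ := stronglyClosed_apply hi₂.2.1 hg htW ht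
    set d := t⁻¹ * g t
    have hd : d ∈ T₁ ⊓ T₂ := ⟨hgT t htW, T₂.mul_mem (T₂.inv_mem ht) hgt⟩
    refine mem_autInducedBy.mpr ⟨d, hd, fun z => ?_⟩
    have hz' : autFun (v : MulAut Q)⁻¹ (z : Ω) ∈ Q := autFun_mem _ z.2
    have hQW : Q ≤ pre S Q R' := le_pre hQS le_sup_right
    have h1 := hg.map_conj htW (hQW hz')
    rw [egQ _ hz', egQ _ (conj_mem_of_mem_normalizer etn hz'), autFun_inv_apply _ z.2] at h1
    rw [← autFun_apply]
    show autFun ((r : MulAut Q)⁻¹ * ((v : MulAut Q) * (r : MulAut Q) * (v : MulAut Q)⁻¹)) (z : Ω) = _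
    rw [autFun_mul _ _ z.2, autFun_mul _ _ z.2, autFun_mul _ _ hz', etv _ hz', h1]
    have hu : g t * (z : Ω) * (g t)⁻¹ ∈ Q := by
      rw [← h1]
      exact autFun_mem _ (conj_mem_of_mem_normalizer etn hz')
    have hv' := conj_mem_of_mem_normalizer (Subgroup.inv_mem _ etn) hu
    have h2 : autFun (r : MulAut Q) (t⁻¹ * (g t * (z : Ω) * (g t)⁻¹) * t⁻¹⁻¹) =
        g t * (z : Ω) * (g t)⁻¹ := by
      rw [etv _ hv']; group
    conv_lhs => rw [← h2, autFun_inv_apply' _ hv']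
    simp only [d]
    group

/-- The automorphisms in both form a family for the builder. -/
theorem pre_both (hS : IsPGroup p S) (h₁ : E₁.IsNormalIn F p) (h₂ : E₂.IsNormalIn F p) :
    NFam.Pre F (T₁ ⊓ T₂) p (members F T₁ T₂) (both E₁ E₂) := by
  obtain ⟨-, hF, hi₁⟩ := id h₁.1
  obtain ⟨-, -, hi₂⟩ := id h₂.1
  have hsc := stronglyClosed_inf hi₁.2.1 hi₂.2.1
  haveI := finite_of_le hsc.1
  exact
    { sc := hsc
      sub := fun Q hQ => hQ.1
      centric := fun Q hQ => hQ.2 Q (isConj_refl (hQ.1.trans hsc.1))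
      conj := fun Q hQ R hR => by
        refine ⟨?_, fun R' hR' => hQ.2 R' (isConj_trans hR hR')⟩
        obtain ⟨f, hf, rfl⟩ := isConj_iff.mp hR
        exact IsMap.img_le_iff.mpr fun x hx => stronglyClosed_apply hsc hf hx (hQ.1 hx)
      up := fun Q hQ R hQR hR => ⟨hR, fun R' hR' => by
        obtain ⟨f, hf, rfl⟩ := isConj_iff.mp hR'
        refine le_trans ?_ ((hQ.2 _ (isConj_iff.mpr ⟨f, hf.mono hQR, rfl⟩)).trans
          (img_mono hQR f))
        exact fun c hc => ⟨hc.1, Subgroup.centralizer_le (img_mono hQR f) hc.2⟩⟩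
      top := ⟨le_rfl, fun R hR => by
        obtain ⟨f, hf, rfl⟩ := isConj_iff.mp hR
        rw [img_eq_of_apply hf le_rfl fun x hx => stronglyClosed_apply hsc hf hx hx]
        exact inf_le_left⟩
      le := fun Q hQ β hβ => (isMap_autFun (hQ.1.trans hsc.1)).mp
        (CharSub.isMap_of_sub hi₁.1 ((isMap_autFun (hQ.1.trans inf_le_left)).mpr hβ.1))
      equiv := fun Q R f hf hi hQ β hβ =>
        ⟨NormCent.congr_mem_sub hi₁ (hQ.1.trans inf_le_left) hf hi hβ.1,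
          NormCent.congr_mem_sub hi₂ (hQ.1.trans inf_le_right) hf hi hβ.2⟩
      ind := fun Q hQ => le_inf
        ((autInducedBy_mono inf_le_left).trans (autInducedBy_le (hQ.1.trans inf_le_left)))
        ((autInducedBy_mono inf_le_right).trans (autInducedBy_le (hQ.1.trans inf_le_right)))
      res := fun Q R hQ hQR hRT β hβ γ e =>
        ⟨(isMap_autFun (hQ.1.trans inf_le_left)).mp
          ((((isMap_autFun (hRT.trans inf_le_left)).mpr hβ.1).mono hQR).congr e),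
        (isMap_autFun (hQ.1.trans inf_le_right)).mp
          ((((isMap_autFun (hRT.trans inf_le_right)).mpr hβ.2).mono hQR).congr e)⟩
      ext := fun Q R hQ hQR hRT β hβ hc γ hγ e =>
        ⟨mem_sub_of_ext hS h₁.1 hsc inf_le_left hQR hRT hQ.2 hβ hc hγ.1 e,
          mem_sub_of_ext hS h₂.1 hsc inf_le_right hQR hRT hQ.2 hβ hc hγ.2 e⟩
      rad := fun Q hQT hn hQ => by
        obtain ⟨R, hR, hRc⟩ : ∃ R, F.IsConj Q R ∧ ¬ centralizerIn (T₁ ⊓ T₂) R ≤ R := by
          by_contra h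
          exact hQ ⟨hQT, fun R hR => by_contra fun h' => h ⟨R, hR, h'⟩⟩
        obtain ⟨f₀, hf₀, hi₀⟩ := isConj_iff.mp (isConj_symm hR)
        obtain ⟨-, hfa, hrec⟩ := fullyNormalized_props hS hF hn
        obtain ⟨-, -, f, hf, hfi, -, -⟩ := exists_map_normalizer hS hfa hrec hf₀ hi₀
        obtain ⟨c, hc, hcR⟩ := SetLike.not_le_iff_exists.mp hRc
        have hcS : c ∈ centralizerIn S R := ⟨hsc.1 hc.1, hc.2⟩
        have hcN := centralizerIn_le_normalizerIn R hcS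
        have hRN : R ≤ normalizerIn S R := le_normalizerIn (isConj_le hR).2
        have hfc := hf.mem_centralizerIn hRN hcN hcS
        rw [hfi] at hfc
        have hfcn := (centralizerIn_le_normalizerIn Q hfc).2
        refine ⟨f c, ⟨stronglyClosed_apply hsc hf hcN hc.1, hfcn⟩, fun h => hcR ?_, hfcn, ?_⟩
        · rw [← hfi] at h
          obtain ⟨x, hx, e⟩ := (hf.mono hRN).mem_img.mp h
          rwa [← hf.injOn (hRN hx) hcN e]
        · convert one_mem (Criterion.opAut F p Q)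
          exact MulEquiv.ext fun z => Subtype.ext
            ((Fusion.mem_centralizerIn.mp hfc).2 z z.2)
      foc := fun Q hQ hn x hx y hy hxS hyS => focal_both hS h₁ h₂ hQ.1 hn hx hy hxS hyS }

end Cfsg.Lib.Fusion.Meet
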