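import Cfsg.Agent.Fusion.Saturation
import Cfsg.Agent.Fusion.NormalFamily.Frattini

/-!
The preimage in `N_S(Q)` of a group of automorphisms of `Q`.
-/

set_option autoImplicit false
set_option linter.unusedSectionVars false
set_option linter.style.haveILetI false

namespace Cfsg.Lib.Fusion.Meet

open Cfsg Cfsg.FusionSystem Cfsg.Lib.Fusion

universe u

variable {Ω : Type u} [Group Ω] {S T Q Q' : Subgroup Ω} {F : FusionSystem S} {p : ℕ}

/-- The elements of `S` inducing members of `R` on `Q`. -/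
def pre (S Q : Subgroup Ω) (R : Subgroup (MulAut Q)) : Subgroup Ω where
  carrier := {s | s ∈ normalizerIn S Q ∧ ∃ α ∈ R, ∀ x ∈ Q, autFun α x = s * x * s⁻¹}
  one_mem' := ⟨Subgroup.one_mem _, 1, R.one_mem, fun x hx => by rw [autFun_one hx]; group⟩
  mul_mem' := by
    rintro a b ⟨ha, α, hα, eα⟩ ⟨hb, β, hβ, eβ⟩
    refine ⟨Subgroup.mul_mem _ ha hb, α * β, R.mul_mem hα hβ, fun x hx => ?_⟩
    rw [autFun_mul _ _ hx, eα _ (autFun_mem β hx), eβ x hx]
    group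
  inv_mem' := by
    rintro a ⟨ha, α, hα, eα⟩
    refine ⟨Subgroup.inv_mem _ ha, α⁻¹, R.inv_mem hα, fun x hx => ?_⟩
    have h1 := eα _ (autFun_mem α⁻¹ hx)
    rw [autFun_inv_apply α hx] at h1
    conv_rhs => rw [h1]
    group

variable {R : Subgroup (MulAut Q)}

theorem mem_pre {s : Ω} :
    s ∈ pre S Q R ↔ s ∈ normalizerIn S Q ∧ ∃ α ∈ R, ∀ x ∈ Q, autFun α x = s * x * s⁻¹ :=
  Iff.rfl

theorem pre_le_normalizerIn : pre S Q R ≤ normalizerIn S Q := fun _ hs => hs.1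

theorem pre_le : pre S Q R ≤ S := fun _ hs => hs.1.1

theorem centralizerIn_le_pre : centralizerIn S Q ≤ pre S Q R := fun c hc =>
  ⟨centralizerIn_le_normalizerIn Q hc, 1, R.one_mem, fun x hx => by
    rw [autFun_one hx, (Fusion.mem_centralizerIn.mp hc).2 x hx]⟩

theorem le_pre (hQ : Q ≤ S) (hI : Inn Q ≤ R) : Q ≤ pre S Q R := fun q hq => by
  refine ⟨le_normalizerIn hQ hq, conjAut Q q (Subgroup.le_normalizer hq), hI ?_, fun x hx => by
    rw [autFun_apply_mem _ hx, conjAut_apply]⟩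
  exact ⟨⟨q, hq⟩, MulEquiv.ext fun z => Subtype.ext (by rw [conjAut_apply]; rfl)⟩

theorem pre_mono_left {K : Subgroup Ω} (h : K ≤ S) : pre K Q R ≤ pre S Q R :=
  fun _ hs => ⟨⟨h hs.1.1, hs.1.2⟩, hs.2⟩

theorem pre_inf : pre S Q R ⊓ T ≤ pre T Q R := fun _ hs => ⟨⟨hs.2, hs.1.1.2⟩, hs.1.2⟩

theorem img_pre_le {f : Ω → Ω} (hf : IsMap F (pre S Q R) f) (hQW : Q ≤ pre S Q R)
    (hQ : IsMap F Q f) (hi : img Q f = Q') :
    img (pre S Q R) f ≤ pre S Q' (R.map (MulAut.congr (hQ.equiv hi)).toMonoidHom) := by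
  refine IsMap.img_le_iff.mpr fun s hs => ?_
  obtain ⟨hsn, α, hα, eα⟩ := mem_pre.mp hs
  refine ⟨?_, _, ⟨α, hα, rfl⟩, fun y hy => ?_⟩
  · have := hf.mem_normalizerIn hQW hs hsn.2
    rwa [hi] at this
  · rw [← hi] at hy
    obtain ⟨x, hx, rfl⟩ := hQ.mem_img.mp hy
    show autFun (MulAut.congr (hQ.equiv hi) α) (f x) = _
    rw [congr_equiv_spec hQ hi α hx, eα x hx, hf.map_conj hs (hQW hx)]

variable [Finite S] [Fact p.Prime]

/-- At a receptive subgroup the preimage is the largest. -/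
theorem card_pre_le (hrec : F.IsReceptive Q) (hR : R ≤ autInducedBy S Q) {f : Ω → Ω}
    (hf : IsMap F Q f) (hi : img Q f = Q') :
    Nat.card (pre S Q' (R.map (MulAut.congr (hf.equiv hi)).toMonoidHom)) ≤
      Nat.card (pre S Q R) := by
  obtain ⟨g, hg, hgi, hgl, hgr⟩ := hf.exists_inv
  rw [hi] at hg hgi hgr
  obtain ⟨k, hk, ek⟩ := receptive_extend hrec hg hgi
  set R' := R.map (MulAut.congr (hf.equiv hi)).toMonoidHom
  have key : ∀ s ∈ pre S Q' R', ∃ α ∈ R, ∀ x ∈ Q', g (s * x * s⁻¹) = autFun α (g x) := by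
    rintro s ⟨-, _, ⟨α, hα, rfl⟩, eα⟩
    refine ⟨α, hα, fun x hx => ?_⟩
    have hgx : g x ∈ Q := hgi.le (IsMap.apply_mem_img hx)
    rw [← eα x hx]
    conv_lhs => rw [← hgr x hx]
    show g (autFun (MulAut.congr (hf.equiv hi) α) (f (g x))) = _
    rw [congr_equiv_spec hf hi α hgx, hgl _ (autFun_mem α hgx)]
  have hle : pre S Q' R' ≤ extSub S Q' g := fun s hs => by
    obtain ⟨α, hα, eα⟩ := key s hs
    obtain ⟨t, ht, et⟩ := mem_autInducedBy.mp (hR hα)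
    refine mem_extSub.mpr ⟨hs.1.1, hs.1.2, t, ht, fun x hx => ?_⟩
    have hgx : g x ∈ Q := hgi.le (IsMap.apply_mem_img hx)
    rw [eα x hx, autFun_apply_mem α hgx]
    exact et ⟨g x, hgx⟩
  haveI : Finite (pre S Q R) := Finite.of_injective _ (Subgroup.inclusion_injective pre_le)
  refine Nat.card_le_card_of_injective (fun s => (⟨k s, ?_⟩ : pre S Q R)) fun a b e =>
    Subtype.ext (hk.injOn (hle a.2) (hle b.2) (congrArg Subtype.val e))
  obtain ⟨α, hα, eα⟩ := key s s.2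
  have hQ'E : Q' ≤ extSub S Q' g := le_extSub hg
  refine ⟨?_, α, hα, fun z hz => ?_⟩
  · have := hk.mem_normalizerIn hQ'E (hle s.2) s.2.1.2
    rwa [(img_congr ek).trans hgi] at this
  · obtain ⟨x, hx, rfl⟩ := hg.mem_img.mp (hgi.symm ▸ hz : z ∈ img Q' g)
    rw [← eα x hx, ← ek _ (conj_mem_of_mem_normalizer s.2.1.2 hx),
      hk.map_conj (hle s.2) (hQ'E hx), ek x hx]

end Cfsg.Lib.Fusion.Meet
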