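import Cfsg.Agent.Fusion.Meet.Pre
import Cfsg.Agent.Fusion.NormalExt.GoodExt

/-!
Automorphisms trivial modulo the part inside a normal subsystem.
-/

set_option autoImplicit false
set_option linter.unusedSectionVars false
set_option linter.style.haveILetI false

namespace Cfsg.Lib.Fusion.Meet

open Cfsg Cfsg.FusionSystem Cfsg.Lib.Fusion

universe u

variable {Ω : Type u} [Group Ω] {S T : Subgroup Ω} {F : FusionSystem S} {E : FusionSystem T}
  {p : ℕ}

theorem card_eq_ker_mul {G H : Type*} [Group G] [Group H] (φ : G →* H) {K : Subgroup G}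
    (h : φ.ker ≤ K) : Nat.card K = Nat.card φ.ker * Nat.card (K.map φ) := by
  have h1 := Subgroup.card_mul_index (φ.comp K.subtype).ker
  rw [Subgroup.index_ker, MonoidHom.range_comp, Subgroup.range_subtype] at h1
  rw [← h1]
  congr 1
  exact Nat.card_congr (Subgroup.subgroupOfEquivOfLe h).toEquiv

/-- An element of order prime to `p` in the join of a normalized subgroup and a `p`-group lies in
the subgroup. -/
theorem mem_of_coprime_sup {G : Type u} [Group G] [Fact p.Prime] {P N : Subgroup G} [Finite P]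
    (hP : IsPGroup p P) (hn : P ≤ Subgroup.normalizer (N : Set G)) {h : G} (hh : h ∈ P ⊔ N)
    (hcop : (orderOf h).Coprime p) : h ∈ N := by
  rw [← SetLike.mem_coe, Subgroup.coe_mul_of_left_le_normalizer_right _ _ hn, Set.mem_mul] at hh
  obtain ⟨a, ha, n, hnN, rfl⟩ := hh
  obtain ⟨k, hk⟩ := IsPGroup.iff_card.mp hP
  obtain ⟨v, hv, e⟩ := NormCent.mul_pow_mod hn ha hnN (p ^ k)
  have h1 : a ^ p ^ k = 1 := by
    rw [← hk]
    exact congrArg Subtype.val (pow_card_eq_one' (x := (⟨a, ha⟩ : P)))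
  rw [h1, one_mul] at e
  obtain ⟨i, hi⟩ := exists_pow_eq_self_of_coprime (Nat.Coprime.pow_left k hcop.symm)
  rw [← hi]
  exact N.pow_mem (e ▸ hv) i

variable [Finite S] [Fact p.Prime]

/-- At a fully normalized subgroup `Aut_S ∩ Aut_E` is induced by `T`. -/
theorem induced_inf_le (hS : IsPGroup p S) (hE : E.IsWeaklyNormalIn F p) {Q : Subgroup Ω}
    (hQT : Q ≤ T) (hn : F.IsFullyNormalized Q) :
    autInducedBy S Q ⊓ E.autGroup Q ≤ autInducedBy T Q := by
  obtain ⟨hEs, hF, hinv⟩ := hE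
  have hTS := hinv.2.1.1
  haveI := finite_of_le hTS
  haveI := finite_of_le hQT
  haveI : Finite (MulAut Q) := NormCent.finite_mulAut Q
  have hTp : IsPGroup p T := hS.of_injective _ (Subgroup.inclusion_injective hTS)
  have hfaD :=
    (fullyNormalized_props hTp hEs (NormCent.fullyNormalized_sub hS hF hinv hQT hn)).2.1
  set U := autInducedBy T Q
  set W := autInducedBy S Q ⊓ E.autGroup Q
  have hUW : U ≤ W := le_inf (autInducedBy_mono hTS) (autInducedBy_le hQT)
  obtain ⟨χ, -, hχ⟩ := exists_conj_into_autS hfaD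
    ((isPGroup_autInducedBy hS Q).to_le (inf_le_left : W ≤ _)) inf_le_right
  refine (Subgroup.eq_of_le_of_card_ge hUW ?_).ge
  exact Nat.card_le_card_of_injective (fun v => (⟨χ * v * χ⁻¹, hχ v v.2⟩ : U))
    fun a b hab => Subtype.ext (mul_left_cancel (mul_right_cancel
      (congrArg (fun z : U => (z : MulAut Q)) hab)))

/-- An element centralizing `Q` and inducing a member of the subsystem on `N`. -/
theorem exists_mem_centralizer_mul (hS : IsPGroup p S) (hE : E.IsWeaklyNormalIn F p)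
    {Q N : Subgroup Ω} (hQN : Q ≤ N) (hN : N ≤ T) (hfc : F.IsFullyCentralized Q)
    (hCN : ∀ c ∈ centralizerIn S Q, c ∈ Subgroup.normalizer (N : Set Ω)) {w : Ω}
    (hw : w ∈ centralizerIn S Q) (hwE : conjAut N w (hCN w hw) ∈ E.autGroup N) :
    ∃ q ∈ centralizerIn T Q, q⁻¹ * w ∈ centralizerIn S N := by
  obtain ⟨-, hF, hinv⟩ := id hE
  have hsc := hinv.2.1
  have hNS := hN.trans hsc.1
  obtain ⟨N', hNN', hn'⟩ := exists_fullyNormalized (F := F) hNS
  obtain ⟨f₀, hf₀, hi₀⟩ := isConj_iff.mp hNN'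
  obtain ⟨-, hfa, hrec⟩ := fullyNormalized_props hS hF hn'
  obtain ⟨-, -, f, hf, hfi, -, hfN⟩ := exists_map_normalizer hS hfa hrec hf₀ hi₀
  have hNN : N ≤ normalizerIn S N := le_normalizerIn hNS
  have hfN' := hf.mono hNN
  have hN'T : N' ≤ T := hfi ▸ IsMap.img_le_iff.mpr fun x hx =>
    stronglyClosed_apply hsc hfN' hx (hN hx)
  have hCle : centralizerIn S Q ≤ normalizerIn S N := fun c hc => ⟨hc.1, hCN c hc⟩
  have hwN := hCle hw
  have hw' := hfN w hwN
  have e : conjAut N' (f w) hw'.2 = MulAut.congr (hfN'.equiv hfi) (conjAut N w (hCN w hw)) :=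
    NFam.eq_of_autFun fun y hy => by
      rw [← hfi] at hy
      obtain ⟨x, hx, rfl⟩ := hfN'.mem_img.mp hy
      rw [congr_equiv_spec hfN' hfi _ hx, autFun_apply_mem _ (hfi ▸ IsMap.apply_mem_img hx),
        conjAut_apply, autFun_apply_mem (conjAut N w (hCN w hw)) hx, conjAut_apply]
      exact (hf.map_conj hwN (hNN hx)).symm
  obtain ⟨t, ht, et⟩ := mem_autInducedBy.mp (induced_inf_le hS hE hN'T hn'
    ⟨conjAut_mem_autInducedBy hw'.2 hw'.1, e ▸ NormCent.congr_mem_sub hinv hN hfN' hfi hwE⟩)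
  have hfQ : img Q f ≤ N' := hfi ▸ img_mono hQN f
  have htQ : t ∈ centralizerIn S (img Q f) := Fusion.mem_centralizerIn.mpr ⟨hsc.1 ht, fun y hy => by
    have h1 := et ⟨y, hfQ hy⟩
    rw [conjAut_apply] at h1
    obtain ⟨x, hx, rfl⟩ := (hfN'.mono hQN).mem_img.mp hy
    rw [← h1, ← hf.map_conj hwN (hNN (hQN hx)), (Fusion.mem_centralizerIn.mp hw).2 x hx]⟩
  obtain ⟨q, hq, eq⟩ := exists_preimage_of_card_le hf hCle inf_le_left
    (fun c hc => hf.mem_centralizerIn (hQN.trans hNN) (hCle hc) hc)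
    (hfc.2 _ (isConj_iff.mpr ⟨f, hfN'.mono hQN, rfl⟩)) htQ
  have hqT : q ∈ T := by
    obtain ⟨k, hk, -, hkl, -⟩ := hf.exists_inv
    rw [← hkl q (hCle hq), eq]
    exact stronglyClosed_apply hsc hk (eq ▸ IsMap.apply_mem_img (hCle hq)) ht
  have hqN := hCle hq
  have hqw : q⁻¹ * w ∈ normalizerIn S N := Subgroup.mul_mem _ (Subgroup.inv_mem _ hqN) hwN
  refine ⟨q, ⟨hqT, hq.2⟩, Fusion.mem_centralizerIn.mpr ⟨hqw.1, fun x hx => ?_⟩⟩
  refine hf.injOn (hNN (conj_mem_of_mem_normalizer hqw.2 hx)) (hNN hx) ?_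
  have h1 := et ⟨f x, hfi ▸ IsMap.apply_mem_img hx⟩
  rw [conjAut_apply] at h1
  rw [hf.map_conj hqw (hNN hx), hf.map_mul (Subgroup.inv_mem _ hqN) hwN, hf.map_inv hqN, eq]
  calc t⁻¹ * f w * f x * (t⁻¹ * f w)⁻¹ = t⁻¹ * (f w * f x * (f w)⁻¹) * t := by group
    _ = f x := by rw [h1]; group

/-- The automorphisms of `V` in the subsystem on `W₁`, trivial modulo `W₁`. -/
structure IsTriv (F : FusionSystem S) (E : FusionSystem T) (Q W₁ : Subgroup Ω) {V : Subgroup Ω}
    (δ : MulAut V) : Prop where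
  mem : δ ∈ F.autGroup V
  top : ∀ x ∈ W₁, autFun δ x ∈ W₁
  bot : ∀ x ∈ Q, autFun δ x ∈ Q
  sub : IsMap E W₁ (autFun δ)
  tmod : ∀ x ∈ V, x⁻¹ * autFun δ x ∈ W₁

theorem isTriv_one {Q W₁ V : Subgroup Ω} (hQ : Q ≤ W₁) (hW : W₁ ≤ V) (hT : W₁ ≤ T) :
    IsTriv F E Q W₁ (1 : MulAut V) :=
  ⟨one_mem _, fun x hx => by rwa [autFun_one (hW hx)],
    fun x hx => by rwa [autFun_one (hW (hQ hx))],
    (isMap_id hT).congr fun x hx => autFun_one (hW hx),
    fun x hx => by rw [autFun_one hx, inv_mul_cancel]; exact W₁.one_mem⟩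

theorem IsTriv.mul {Q W₁ V : Subgroup Ω} (hQ : Q ≤ W₁) (hW : W₁ ≤ V) {α β : MulAut V}
    (ha : IsTriv F E Q W₁ α) (hb : IsTriv F E Q W₁ β) : IsTriv F E Q W₁ (α * β) :=
  ⟨mul_mem ha.mem hb.mem,
    fun x hx => by rw [autFun_mul _ _ (hW hx)]; exact ha.top _ (hb.top x hx),
    fun x hx => by rw [autFun_mul _ _ (hW (hQ hx))]; exact ha.bot _ (hb.bot x hx),
    (hb.sub.comp ha.sub hb.top).congr fun x hx => autFun_mul _ _ (hW hx),
    fun x hx => by
      rw [autFun_mul _ _ hx, show x⁻¹ * autFun α (autFun β x) =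
        (x⁻¹ * autFun β x) * ((autFun β x)⁻¹ * autFun α (autFun β x)) by group]
      exact W₁.mul_mem (hb.tmod x hx) (ha.tmod _ (autFun_mem β hx))⟩

/-- The group of these automorphisms. -/
def trivGroup (F : FusionSystem S) (E : FusionSystem T) {Q W₁ V : Subgroup Ω} (hQ : Q ≤ W₁)
    (hW : W₁ ≤ V) (hT : W₁ ≤ T) [Finite (MulAut V)] : Subgroup (MulAut V) where
  carrier := {δ | IsTriv F E Q W₁ δ}
  one_mem' := isTriv_one hQ hW hT
  mul_mem' := IsTriv.mul hQ hW
  inv_mem' := fun {a} ha => NormCent.inv_mem_of_pow (good := IsTriv F E Q W₁) fun n => by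
    induction n with
    | zero => rw [pow_zero]; exact isTriv_one hQ hW hT
    | succ n ih => rw [pow_succ]; exact ih.mul hQ hW ha

/-- Conjugation by elements of `S` permutes these automorphisms. -/
theorem IsTriv.conj (hinv : E.IsInvariantIn F) {Q W₁ V : Subgroup Ω} (hQ : Q ≤ W₁) (hW : W₁ ≤ V)
    (hT : W₁ ≤ T) (hV : V ≤ S) {s : Ω} (hs : s ∈ S) (hsQ : s ∈ Subgroup.normalizer (Q : Set Ω))
    (hsW : s ∈ Subgroup.normalizer (W₁ : Set Ω)) (hsV : s ∈ Subgroup.normalizer (V : Set Ω))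
    {δ : MulAut V} (hδ : IsTriv F E Q W₁ δ) :
    IsTriv F E Q W₁ (conjAut V s hsV * δ * (conjAut V s hsV)⁻¹) := by
  set c := conjAut V s hsV
  have hval : ∀ x ∈ V, autFun (c * δ * c⁻¹) x = s * autFun δ (s⁻¹ * x * s⁻¹⁻¹) * s⁻¹ := by
    intro x hx
    have hx' := conj_mem_of_mem_normalizer (Subgroup.inv_mem _ hsV) hx
    have h1 : autFun c⁻¹ x = s⁻¹ * x * s⁻¹⁻¹ := by
      have : autFun c (s⁻¹ * x * s⁻¹⁻¹) = x := by
        rw [autFun_apply_mem _ hx', conjAut_apply]; group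
      conv_lhs => rw [← this]
      exact autFun_inv_apply' c hx'
    rw [autFun_mul _ _ hx, h1, autFun_mul _ _ hx', autFun_apply_mem c (autFun_mem δ hx'),
      conjAut_apply]
  refine ⟨mul_mem (mul_mem (autInducedBy_le hV (conjAut_mem_autInducedBy _ hs)) hδ.mem)
    (inv_mem (autInducedBy_le hV (conjAut_mem_autInducedBy _ hs))), fun x hx => ?_, fun x hx => ?_,
    ?_, fun x hx => ?_⟩
  · rw [hval x (hW hx)]
    exact conj_mem_of_mem_normalizer hsW
      (hδ.top _ (conj_mem_of_mem_normalizer (Subgroup.inv_mem _ hsW) hx))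
  · rw [hval x (hW (hQ hx))]
    exact conj_mem_of_mem_normalizer hsQ
      (hδ.bot _ (conj_mem_of_mem_normalizer (Subgroup.inv_mem _ hsQ) hx))
  · have hk : IsMap F W₁ (fun x => s * x * s⁻¹) := isMap_conj (hW.trans hV) hs
    have h1 := strongInv_of_invariant hinv W₁ W₁ le_rfl hT (autFun δ) hδ.sub hδ.top
      (fun x => s * x * s⁻¹) hk (autFun (c * δ * c⁻¹)) fun x hx => by
        have hx' := hW (conj_mem_of_mem_normalizer hsW hx)
        show autFun (c * δ * c⁻¹) (s * x * s⁻¹) = s * autFun δ x * s⁻¹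
        rw [hval _ hx']
        congr 3
        group
    rwa [img_eq_of_apply hk le_rfl fun x hx => conj_mem_of_mem_normalizer hsW hx] at h1
  · have hx' := conj_mem_of_mem_normalizer (Subgroup.inv_mem _ hsV) hx
    rw [hval x hx]
    have h1 := conj_mem_of_mem_normalizer hsW (hδ.tmod _ hx')
    convert h1 using 1
    group

end Cfsg.Lib.Fusion.Meet
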